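import Groth.Agent.ZeroCyc.K758.DirLim2
import Groth.Agent.S2118

/-! A flat module is a directed colimit of finite free modules (elementwise form, from Lazard's theorem S2118). -/

set_option autoImplicit false
universe u

open CategoryTheory

namespace K758.FlatSys

open K758.DirLim

theorem exists_isDirLim_of_flat {A : Type u} [CommRing A] (M : Type u) [AddCommGroup M] [Module A M]
    [Module.Flat A M] :
    ∃ (J : Type u) (_ : Preorder J) (_ : IsDirected J (fun a b => a ≤ b)) (_ : Nonempty J)
      (Mi : J → Type u) (_ : ∀ i, AddCommGroup (Mi i)) (_ : ∀ i, Module A (Mi i))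
      (t : ∀ i j : J, i ≤ j → (Mi i →ₗ[A] Mi j)) (φ : ∀ i : J, Mi i →ₗ[A] M),
      IsDirLim Mi t φ ∧ ∀ i, Module.Finite A (Mi i) ∧ Module.Free A (Mi i) := by
  obtain ⟨J, _, _, _, F, hF, ⟨e⟩⟩ := (Groth.Agent.S2118.result (R := A) M).1 inferInstance
  have : IsFiltered J := inferInstance
  refine ⟨J, inferInstance, inferInstance, inferInstance, fun j => F.obj j, fun j => inferInstance,
    fun j => inferInstance, fun i j h => (F.map (homOfLE h)).hom,
    fun j => (Limits.colimit.ι F j ≫ e.hom).hom, ?_, hF⟩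
  refine ⟨?_, ?_, ?_, ?_, ?_⟩
  · intro i j h x
    have := Limits.colimit.w F (homOfLE h)
    rw [← this]
    rfl
  · intro m
    obtain ⟨j, x, hx⟩ := Limits.Concrete.colimit_exists_rep F (e.inv m)
    refine ⟨j, x, ?_⟩
    show e.hom (Limits.colimit.ι F j x) = m
    rw [hx]
    exact congrArg (fun f => f.hom m) e.inv_hom_id
  · intro i x hx
    have hx' : e.hom (Limits.colimit.ι F i x) = 0 := hx
    have h0 : Limits.colimit.ι F i x = 0 := by
      have h1 := congrArg (fun f => f.hom (Limits.colimit.ι F i x)) e.hom_inv_id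
      have h2 : e.inv (e.hom (Limits.colimit.ι F i x)) = Limits.colimit.ι F i x := h1
      rw [← h2, hx', map_zero]
    obtain ⟨j, g, hg⟩ := Limits.Concrete.colimit_rep_eq_zero A F i _ h0
    refine ⟨j, leOfHom g, ?_⟩
    show F.map (homOfLE (leOfHom g)) x = 0
    rw [Subsingleton.elim (homOfLE (leOfHom g)) g, hg]
  · intro i h x
    show F.map (homOfLE h) x = x
    rw [Subsingleton.elim (homOfLE h) (𝟙 i), F.map_id]
    rfl
  · intro i j k hij hjk x
    show F.map (homOfLE hjk) (F.map (homOfLE hij) x) = F.map (homOfLE (hij.trans hjk)) x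
    rw [← ConcreteCategory.comp_apply, ← F.map_comp]
    rfl

end K758.FlatSys
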