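import Groth.Agent.ZeroCyc.K758.SymFree
import Groth.Agent.ZeroCyc.K758.FlatSys
import Mathlib.LinearAlgebra.Dimension.Free

/-! Symmetric tensors of flat modules. -/

set_option autoImplicit false
universe u

open scoped TensorProduct
open K758.Coef K757.TSFree K758.DirLim K758.FlatSys

namespace K758.SymMod

section Lim

variable {A : Type u} [CommRing A] {ι : Type u} [Preorder ι] [IsDirected ι (fun i j => i ≤ j)] [Nonempty ι]
  {M : Type u} [AddCommGroup M] [Module A M]
  {Mi : ι → Type u} [∀ i, AddCommGroup (Mi i)] [∀ i, Module A (Mi i)]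
  {t : ∀ i j : ι, i ≤ j → (Mi i →ₗ[A] Mi j)} {φ : ∀ i : ι, Mi i →ₗ[A] M}

/-- Symmetric tensors commute with directed colimits. -/
theorem isDirLim_sym (H : IsDirLim Mi t φ) (d : ℕ) :
    IsDirLim (fun i => Sym A (Mi i) d) (fun i j h => symMap d (t i j h)) (fun i => symMap d (φ i)) := by
  have HT := H.piTensor (Fin d)
  refine ⟨?_, ?_, ?_, ?_, ?_⟩
  · intro i j h x
    exact Subtype.ext (HT.comp i j h x.1)
  · intro z
    obtain ⟨i, y, hy⟩ := HT.surj z.1
    obtain ⟨j, hij, hj⟩ := HT.eq_finite (κ := Equiv.Perm (Fin d)) (i := i)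
      (fun σ => PiTensorProduct.reindex A (fun _ : Fin d => Mi i) σ y) (fun _ => y) (by
        intro σ
        rw [map_reindex, hy, (mem_Sym z.1).1 z.2 σ])
    refine ⟨j, ⟨PiTensorProduct.map (fun _ : Fin d => t i j hij) y, ?_⟩, Subtype.ext ?_⟩
    · rw [mem_Sym]
      intro σ
      rw [← map_reindex]
      exact hj σ
    · exact (HT.comp i j hij y).trans hy
  · intro i x hx
    obtain ⟨j, hij, hj⟩ := HT.zero i x.1 (congrArg Subtype.val hx)
    exact ⟨j, hij, Subtype.ext hj⟩
  · intro i h x
    exact Subtype.ext (HT.id i h x.1)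
  · intro i j k hij hjk x
    exact Subtype.ext (HT.trans i j k hij hjk x.1)

end Lim

section Flat

variable {A : Type u} [CommRing A] {M : Type u} [AddCommGroup M] [Module A M]

/-- A finite free module has a basis indexed by some `Fin n`. -/
theorem exists_basis_fin (A : Type u) [CommRing A] (M : Type u) [AddCommGroup M] [Module A M] [Module.Finite A M]
    [Module.Free A M] : ∃ n : ℕ, Nonempty (Module.Basis (Fin n) A M) := by
  classical
  cases subsingleton_or_nontrivial A
  · have : Subsingleton M := Module.subsingleton A M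
    exact ⟨0, ⟨Module.Basis.empty M⟩⟩
  · exact ⟨_, ⟨(Module.Free.chooseBasis A M).reindex (Fintype.equivFin _)⟩⟩

/-- For a flat module the inclusion of the symmetric tensors is universally injective. -/
theorem lTensor_subtype_injective_of_flat [Module.Flat A M] (d : ℕ) (N : Type u) [AddCommGroup N] [Module A N] :
    Function.Injective ((Sym A M d).subtype.lTensor N) := by
  obtain ⟨J, _, _, _, Mi, _, _, t, φ, H, hM⟩ := exists_isDirLim_of_flat (A := A) M
  rw [injective_iff_map_eq_zero]
  intro y hy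
  have HS := (isDirLim_sym H d).lTensor N
  have HT := (H.piTensor (Fin d)).lTensor N
  obtain ⟨i, x, rfl⟩ := HS.surj y
  have h1 : ∀ (i : J) (x : N ⊗[A] Sym A (Mi i) d), (Sym A M d).subtype.lTensor N ((symMap d (φ i)).lTensor N x) =
      (PiTensorProduct.map (fun _ : Fin d => φ i)).lTensor N ((Sym A (Mi i) d).subtype.lTensor N x) := by
    intro i x
    rw [← LinearMap.comp_apply, ← LinearMap.comp_apply, ← LinearMap.lTensor_comp, ← LinearMap.lTensor_comp]
    rfl
  rw [h1] at hy
  obtain ⟨j, hij, hj⟩ := HT.zero i _ hy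
  have h2 : (Sym A (Mi j) d).subtype.lTensor N ((symMap d (t i j hij)).lTensor N x) = 0 := by
    rw [← hj, ← LinearMap.comp_apply, ← LinearMap.comp_apply, ← LinearMap.lTensor_comp, ← LinearMap.lTensor_comp]
    rfl
  have := (hM j).1
  have := (hM j).2
  obtain ⟨n, ⟨e⟩⟩ := exists_basis_fin A (Mi j)
  have h3 := lTensor_subtype_injective_of_basis e d N (h2.trans (map_zero _).symm)
  rw [← HS.comp i j hij, h3, map_zero]

/-- The symmetric tensors of a flat module are flat. -/
theorem flat_Sym [Module.Flat A M] (d : ℕ) : Module.Flat A (Sym A M d) := by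
  obtain ⟨J, _, _, _, Mi, _, _, t, φ, H, hM⟩ := exists_isDirLim_of_flat (A := A) M
  have HS := isDirLim_sym H d
  apply Module.Flat.of_forall_isTrivialRelation
  intro l f x hfx
  obtain ⟨i, y, hy⟩ := HS.surj_finite x
  have h0 : symMap d (φ i) (∑ k, f k • y k) = 0 := by
    rw [map_sum, ← hfx]
    exact Finset.sum_congr rfl fun k _ => by rw [map_smul, hy]
  obtain ⟨j, hij, hj⟩ := HS.zero i _ h0
  have := (hM j).1
  have := (hM j).2
  obtain ⟨n, ⟨e⟩⟩ := exists_basis_fin A (Mi j)
  have := (finite_projective_Sym e d).2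
  have h1 : ∑ k, f k • symMap d (t i j hij) (y k) = 0 := by
    rw [← hj, map_sum]
    exact Finset.sum_congr rfl fun k _ => by rw [map_smul]
  obtain ⟨k, a, z, hz1, hz2⟩ := Module.Flat.isTrivialRelation_of_sum_smul_eq_zero h1
  refine ⟨k, a, fun m => symMap d (φ j) (z m), fun m => ?_, hz2⟩
  have h2 : symMap d (t i j hij) (y m) = ∑ l, a m l • z l := hz1 m
  rw [← hy m, ← HS.comp i j hij, h2, map_sum]
  exact Finset.sum_congr rfl fun k _ => by rw [map_smul]

/-- Symmetric tensors of a flat module lift along surjections. -/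
theorem symMap_surjective {N : Type u} [AddCommGroup N] [Module A N] [Module.Flat A N] (f : M →ₗ[A] N)
    (hf : Function.Surjective f) (d : ℕ) : Function.Surjective (symMap d f : Sym A M d →ₗ[A] Sym A N d) := by
  obtain ⟨J, _, _, _, Mi, _, _, t, φ, H, hM⟩ := exists_isDirLim_of_flat (A := A) N
  intro z
  obtain ⟨i, y, rfl⟩ := (isDirLim_sym H d).surj z
  have := (hM i).1
  have := (hM i).2
  obtain ⟨g, hg⟩ := Module.projective_lifting_property f (φ i) hf
  refine ⟨symMap d g y, Subtype.ext ?_⟩
  rw [← hg]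
  simp only [symMap_val]
  rw [PiTensorProduct.map_comp]
  rfl

/-- The symmetric tensors of a flat module are spanned by orbit sums. -/
theorem span_sosum_of_flat [Module.Flat A M] (d : ℕ) :
    Submodule.span A {z : Sym A M d | ∃ (n : ℕ) (b : Fin n → M) (α : Fin n →₀ ℕ), α.degree = d ∧ z = sosum d b α} = ⊤ := by
  obtain ⟨J, _, _, _, Mi, _, _, t, φ, H, hM⟩ := exists_isDirLim_of_flat (A := A) M
  rw [eq_top_iff]
  intro z _
  obtain ⟨i, y, rfl⟩ := (isDirLim_sym H d).surj z
  have := (hM i).1
  have := (hM i).2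
  obtain ⟨n, ⟨e⟩⟩ := exists_basis_fin A (Mi i)
  have hy : y ∈ Submodule.span A {z : Sym A (Mi i) d | ∃ α : Fin n →₀ ℕ, α.degree = d ∧ z = sosum d e α} := by
    rw [span_sosum]; trivial
  have h1 : symMap d (φ i) y ∈ (Submodule.span A {z : Sym A (Mi i) d | ∃ α : Fin n →₀ ℕ, α.degree = d ∧
      z = sosum d e α}).map (symMap d (φ i)) := Submodule.mem_map_of_mem hy
  rw [Submodule.map_span] at h1
  refine Submodule.span_mono ?_ h1
  rintro _ ⟨_, ⟨α, hα, rfl⟩, rfl⟩
  refine ⟨n, fun k => φ i (e k), α, hα, Subtype.ext ?_⟩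
  exact map_osum (φ i) e α

/-- Two linear maps out of the symmetric tensors of a flat module agreeing on orbit sums are equal. -/
theorem ext_of_flat [Module.Flat A M] {d : ℕ} {N : Type u} [AddCommGroup N] [Module A N] {f g : Sym A M d →ₗ[A] N}
    (h : ∀ (n : ℕ) (b : Fin n → M) (α : Fin n →₀ ℕ), α.degree = d → f (sosum d b α) = g (sosum d b α)) : f = g := by
  refine LinearMap.ext_on (span_sosum_of_flat (A := A) (M := M) d) ?_
  rintro _ ⟨n, b, α, hα, rfl⟩
  exact h n b α hα

/-- The linear map on symmetric tensors attached to a homogeneous law on a flat module. -/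
theorem exists_lift_of_flat [Module.Flat A M] {d : ℕ} {N : Type u} [AddCommGroup N] [Module A N] {F : M →ₚₗ[A] N}
    (hF : PolLaw.IsHomog F d) :
    ∃ L : Sym A M d →ₗ[A] N, ∀ (κ : Type) [Fintype κ] (b : κ → M) (α : κ →₀ ℕ), α.degree = d →
      L (sosum d b α) = coeff F b α := by
  obtain ⟨J, _, _, _, Mi, _, _, t, φ, H, hM⟩ := exists_isDirLim_of_flat (A := A) M
  have HS := isDirLim_sym H d
  have hb : ∀ j, ∃ n : ℕ, Nonempty (Module.Basis (Fin n) A (Mi j)) := by
    intro j
    have := (hM j).1
    have := (hM j).2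
    exact exists_basis_fin A (Mi j)
  choose n e using hb
  let e' : ∀ j, Module.Basis (Fin (n j)) A (Mi j) := fun j => (e j).some
  have hFj : ∀ j, PolLaw.IsHomog (PolLaw.precomp F (φ j)) d := by
    intro j S _ _ s x
    show F.toFun' S ((φ j).lTensor S (s • x)) = s ^ d • F.toFun' S ((φ j).lTensor S x)
    have h1 : (φ j).lTensor S (s • x) = s • (φ j).lTensor S x := by
      induction x using TensorProduct.induction_on with
      | zero => simp
      | tmul a b => simp [TensorProduct.smul_tmul']
      | add a b ha hb => simp only [smul_add, map_add, ha, hb]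
    rw [h1, hF S s]
  let Lj : ∀ j, Sym A (Mi j) d →ₗ[A] N := fun j => liftT (e' j) d (PolLaw.precomp F (φ j)) ∘ₗ (Sym A (Mi j) d).subtype
  have hLj : ∀ j (κ : Type) [Fintype κ] (b : κ → Mi j) (α : κ →₀ ℕ), α.degree = d →
      Lj j (sosum d b α) = coeff F (fun k => φ j (b k)) α := by
    intro j κ _ b α hα
    show liftT (e' j) d (PolLaw.precomp F (φ j)) (osum A d b α) = _
    rw [liftT_osum (e' j) (hFj j) b α hα, coeff_precomp]
  have hcompat : ∀ (i j : J) (h : i ≤ j) (x : Sym A (Mi i) d), Lj j (symMap d (t i j h) x) = Lj i x := by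
    intro i j h x
    have hx : x ∈ Submodule.span A {z : Sym A (Mi i) d | ∃ α : Fin (n i) →₀ ℕ, α.degree = d ∧ z = sosum d (e' i) α} := by
      rw [span_sosum]; trivial
    induction hx using Submodule.span_induction with
    | zero => simp
    | add x y _ _ hx hy => rw [map_add, map_add, map_add, hx, hy]
    | smul r x _ hx => rw [map_smul, map_smul, map_smul, hx]
    | mem x hx =>
      obtain ⟨α, hα, rfl⟩ := hx
      have h1 : symMap d (t i j h) (sosum d (e' i) α) = sosum d (fun k => t i j h (e' i k)) α :=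
        Subtype.ext (map_osum (t i j h) (e' i) α)
      rw [h1, hLj j _ _ α hα, hLj i _ _ α hα]
      simp only [H.comp]
  refine ⟨HS.lift Lj hcompat, fun κ _ b α hα => ?_⟩
  obtain ⟨i, x, hx⟩ := H.surj_finite b
  have h1 : sosum d b α = symMap d (φ i) (sosum d x α) := by
    refine Subtype.ext ?_
    have h2 := map_osum (A := A) (d := d) (φ i) x α
    rw [show (fun k => φ i (x k)) = b from funext hx] at h2
    exact h2.symm
  rw [h1, HS.lift_apply, hLj i κ x α hα]
  congr 1
  rw [show (fun k => φ i (x k)) = b from funext hx]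

end Flat

end K758.SymMod
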