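import Groth.Agent.ZeroCyc.K758.UnivTS

/-! Uniqueness of the divided power algebra; comparison with symmetric tensors in the flat case. -/

set_option autoImplicit false
universe u

open scoped TensorProduct
open K758.Coef K757.TSFree K758.SymMod K758.UnivTS

namespace K758.GammaTS

variable {A : Type u} [CommRing A] {B : Type u} [CommRing B] [Algebra A B] {d : ℕ}

theorem postcomp_postcomp {M N P Q : Type u} [AddCommGroup M] [Module A M] [AddCommGroup N] [Module A N]
    [AddCommGroup P] [Module A P] [AddCommGroup Q] [Module A Q] (F : M →ₚₗ[A] N) (g : N →ₗ[A] P) (h : P →ₗ[A] Q) :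
    PolLaw.postcomp h (PolLaw.postcomp g F) = PolLaw.postcomp (h ∘ₗ g) F := by
  refine PolynomialLaw.ext ?_
  funext S _ _ x
  show h.lTensor S (g.lTensor S (F.toFun' S x)) = (h ∘ₗ g).lTensor S (F.toFun' S x)
  rw [LinearMap.lTensor_comp, LinearMap.comp_apply]

theorem postcomp_id {M N : Type u} [AddCommGroup M] [Module A M] [AddCommGroup N] [Module A N] (F : M →ₚₗ[A] N) :
    PolLaw.postcomp LinearMap.id F = F := by
  refine PolynomialLaw.ext ?_
  funext S _ _ x
  show LinearMap.id.lTensor S (F.toFun' S x) = F.toFun' S x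
  rw [LinearMap.lTensor_id, LinearMap.id_apply]

/-- Two universal pairs are isomorphic. -/
theorem exists_equiv {C C' : Type u} [CommRing C] [Algebra A C] [CommRing C'] [Algebra A C']
    (γ : PolLaw.MulLaw A B C d) (hγ : PolLaw.IsGammaD γ) (γ' : PolLaw.MulLaw A B C' d) (hγ' : PolLaw.IsGammaD γ') :
    ∃ e : C ≃ₐ[A] C', PolLaw.postcomp e.toAlgHom.toLinearMap γ.law = γ'.law := by
  obtain ⟨f, hf, -⟩ := hγ C' γ'
  obtain ⟨g, hg, -⟩ := hγ' C γ
  have h1 : g.comp f = AlgHom.id A C := by
    refine (hγ C γ).unique ?_ (postcomp_id _)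
    show PolLaw.postcomp (g.toLinearMap ∘ₗ f.toLinearMap) γ.law = γ.law
    rw [← postcomp_postcomp, hf, hg]
  have h2 : f.comp g = AlgHom.id A C' := by
    refine (hγ' C' γ').unique ?_ (postcomp_id _)
    show PolLaw.postcomp (f.toLinearMap ∘ₗ g.toLinearMap) γ'.law = γ'.law
    rw [← postcomp_postcomp, hg, hf]
  refine ⟨AlgEquiv.ofAlgHom f g h2 h1, hf⟩

/-- The universal law of a flat algebra into its symmetric tensors. -/
theorem exists_tau_flat (A B : Type u) [CommRing A] [CommRing B] [Algebra A B] [Module.Flat A B] (d : ℕ) :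
    ∃ τ : PolLaw.MulLaw A B (SymTen.TS A B d) d,
      PolLaw.postcomp (SymTen.TS A B d).val.toLinearMap τ.law = (SymTen.tpowLaw A B d).law ∧
      coeffSpan τ.law = ⊤ ∧ PolLaw.IsGammaD τ ∧
      ∀ (N : Type u) [AddCommGroup N] [Module A N] (F : B →ₚₗ[A] N) (_ : PolLaw.IsHomog F d),
        ∃ L : SymTen.TS A B d →ₗ[A] N, PolLaw.postcomp L τ.law = F := by
  obtain ⟨τ, hτ⟩ := exists_tau (pureTS_of_flat A B d)
  exact ⟨τ, hτ, isGammaD_tau span_tosum_of_flat (fun N _ _ F hF => exists_linear_of_flat hF) τ hτ⟩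

theorem flat_TS (A B : Type u) [CommRing A] [CommRing B] [Algebra A B] [Module.Flat A B] (d : ℕ) :
    Module.Flat A (SymTen.TS A B d) := by
  have := flat_Sym (A := A) (M := B) d
  let e : Sym A B d ≃ₗ[A] SymTen.TS A B d :=
    { toFun := fun z => ⟨z.1, (Sym_eq_TS _).1 z.2⟩
      invFun := fun z => ⟨z.1, (Sym_eq_TS _).2 z.2⟩
      map_add' := fun _ _ => rfl
      map_smul' := fun _ _ => rfl
      left_inv := fun _ => rfl
      right_inv := fun _ => rfl }
  exact Module.Flat.of_linearEquiv e.symm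

end K758.GammaTS
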