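import Mathlib.RingTheory.PiTensorProduct
import Mathlib.RingTheory.TensorProduct.Free
import Mathlib.RingTheory.Nilpotent.Lemmas
import Mathlib.RingTheory.LocalRing.ResidueField.Ideal
import Mathlib.LinearAlgebra.Basis.VectorSpace

/-! Reducedness of tensor powers over geometrically reduced algebras. -/

set_option autoImplicit false
universe u v w

open scoped TensorProduct

namespace K758.TpowRed

section Split

variable (A : Type u) [CommRing A] (B : Type u) [CommRing B] [Algebra A B] (d : ℕ)

/-- Splitting off the last factor, linearly. -/
noncomputable def splitLin : (⨂[A] _ : Fin (d + 1), B) ≃ₗ[A] (⨂[A] _ : Fin d, B) ⊗[A] B :=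
  (PiTensorProduct.reindex A (fun _ => B) (finSumFinEquiv (m := d) (n := 1)).symm) ≪≫ₗ
    (PiTensorProduct.tmulEquiv A B).symm ≪≫ₗ
      TensorProduct.congr (LinearEquiv.refl A _) (PiTensorProduct.subsingletonEquiv (0 : Fin 1))

theorem splitLin_tprod (b : Fin (d + 1) → B) :
    splitLin A B d (PiTensorProduct.tprod A b) =
      PiTensorProduct.tprod A (fun i : Fin d => b i.castSucc) ⊗ₜ[A] b (Fin.last d) := by
  simp only [splitLin, LinearEquiv.trans_apply, PiTensorProduct.reindex_tprod, PiTensorProduct.tmulEquiv_symm_apply,
    TensorProduct.congr_tmul, LinearEquiv.refl_apply, PiTensorProduct.subsingletonEquiv_apply_tprod]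
  rfl

/-- Splitting off the last factor, as an algebra map. -/
noncomputable def splitAlg : (⨂[A] _ : Fin (d + 1), B) →ₐ[A] (⨂[A] _ : Fin d, B) ⊗[A] B :=
  AlgHom.ofLinearMap (splitLin A B d).toLinearMap
    (by
      rw [PiTensorProduct.one_def, LinearEquiv.coe_coe, splitLin_tprod, Algebra.TensorProduct.one_def,
        PiTensorProduct.one_def]
      rfl)
    (by
      intro x y
      simp only [LinearEquiv.coe_coe]
      induction x using PiTensorProduct.induction_on with
      | smul_tprod r f =>
        induction y using PiTensorProduct.induction_on with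
        | smul_tprod s g =>
          rw [PiTensorProduct.smul_tprod_mul_smul_tprod, map_smul, map_smul, map_smul, splitLin_tprod,
            splitLin_tprod, splitLin_tprod, smul_mul_smul_comm, Algebra.TensorProduct.tmul_mul_tmul,
            PiTensorProduct.tprod_mul_tprod]
          rfl
        | add x y hx hy => rw [mul_add, map_add, hx, hy, map_add, mul_add]
      | add x y hx hy => rw [add_mul, map_add, hx, hy, map_add, add_mul])

theorem splitAlg_injective : Function.Injective (splitAlg A B d) := (splitLin A B d).injective

end Split

section Joint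

variable {k : Type u} [Field k] {B : Type v} [CommRing B] [Algebra k B]

theorem isReduced_tensor_of_joint {ι : Type*} (C : ι → Type w) [∀ j, CommRing (C j)]
    [∀ j, Algebra k (C j)] (φ : ∀ j, B →ₐ[k] C j) (hφ : ∀ b, (∀ j, φ j b = 0) → b = 0)
    (D : Type*) [CommRing D] [Algebra k D] (hred : ∀ j, IsReduced (C j ⊗[k] D)) :
    IsReduced (B ⊗[k] D) := by
  constructor
  intro x hx
  have hx' : ∀ j, Algebra.TensorProduct.map (φ j) (AlgHom.id k D) x = 0 := by
    intro j
    have := hred j
    exact (hx.map (Algebra.TensorProduct.map (φ j) (AlgHom.id k D))).eq_zero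
  let b := Module.Basis.ofVectorSpace k D
  have key : ∀ (j : ι) (y : B ⊗[k] D) (i : _),
      (Algebra.TensorProduct.basis (C j) b).repr (Algebra.TensorProduct.map (φ j) (AlgHom.id k D) y) i =
        φ j ((Algebra.TensorProduct.basis B b).repr y i) := by
    intro j y i
    induction y using TensorProduct.induction_on with
    | zero => simp
    | tmul c d => simp [Algebra.TensorProduct.basis_repr_tmul]
    | add y z hy hz => simp only [map_add, Finsupp.add_apply, hy, hz]
  apply (Algebra.TensorProduct.basis B b).repr.injective
  ext i
  rw [map_zero, Finsupp.zero_apply]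
  apply hφ
  intro j
  rw [← key, hx' j, map_zero, Finsupp.zero_apply]

/-- A reduced `k`-algebra tensored with a geometrically reduced one is reduced. -/
theorem isReduced_tensor_of_geom {k : Type u} [Field k] (X D : Type u) [CommRing X] [Algebra k X] [IsReduced X]
    [CommRing D] [Algebra k D] (hD : ∀ (L : Type u) [Field L] [Algebra k L], IsReduced (L ⊗[k] D)) :
    IsReduced (X ⊗[k] D) := by
  refine isReduced_tensor_of_joint (ι := PrimeSpectrum X) (fun p => p.asIdeal.ResidueField)
    (fun p => IsScalarTower.toAlgHom k X p.asIdeal.ResidueField) ?_ D (fun p => hD _)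
  intro b hb
  have h1 : b ∈ nilradical X := by
    rw [nilradical_eq_sInf, Ideal.mem_sInf]
    intro p hp
    have hp' : p.IsPrime := hp
    have h2 : algebraMap X p.ResidueField b = 0 := hb ⟨p, hp'⟩
    exact Ideal.algebraMap_residueField_eq_zero.1 h2
  rw [nilradical_eq_zero] at h1
  exact h1

end Joint

section Main

variable {A : Type u} [CommRing A] {B : Type u} [CommRing B] [Algebra A B]

/-- Tensor powers of an algebra with geometrically reduced fibres have reduced fibres. -/
theorem isReduced_tpow (hred : ∀ (K : Type u) [Field K] [Algebra A K], IsReduced (K ⊗[A] B)) (d : ℕ)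
    (K : Type u) [Field K] [Algebra A K] : IsReduced (K ⊗[A] (⨂[A] _ : Fin d, B)) := by
  induction d with
  | zero =>
    let e : K ⊗[A] (⨂[A] _ : Fin 0, B) →ₐ[A] K :=
      Algebra.TensorProduct.productMap (AlgHom.id A K)
        (PiTensorProduct.liftAlgHom (MultilinearMap.constOfIsEmpty A (fun _ : Fin 0 => B) (1 : K)) (by simp) (by simp))
    have he : Function.Injective e := by
      let i : K →ₗ[A] K ⊗[A] (⨂[A] _ : Fin 0, B) := (TensorProduct.mk A K (⨂[A] _ : Fin 0, B)).flip 1
      have h1 : ∀ x, i (e x) = x := by
        intro x
        induction x using TensorProduct.induction_on with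
        | zero => simp
        | tmul a z =>
          induction z using PiTensorProduct.induction_on with
          | smul_tprod r f =>
            have hf : f = 1 := Subsingleton.elim _ _
            subst hf
            have h1 : PiTensorProduct.lift (MultilinearMap.constOfIsEmpty A (fun _ : Fin 0 => B) (1 : K))
                (1 : ⨂[A] _ : Fin 0, B) = 1 := by
              rw [PiTensorProduct.one_def, PiTensorProduct.lift.tprod]
              rfl
            simp [e, i, ← PiTensorProduct.one_def, TensorProduct.smul_tmul', h1]
          | add x y hx hy => rw [TensorProduct.tmul_add, map_add, map_add, hx, hy]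
        | add x y hx hy => rw [map_add, map_add, hx, hy]
      exact Function.LeftInverse.injective h1
    exact isReduced_of_injective e.toRingHom he
  | succ d ih =>
    have h1 : IsReduced ((K ⊗[A] (⨂[A] _ : Fin d, B)) ⊗[K] (K ⊗[A] B)) := by
      refine isReduced_tensor_of_geom _ _ fun L _ _ => ?_
      let : Algebra A L := ((algebraMap K L).comp (algebraMap A K)).toAlgebra
      have : IsScalarTower A K L := IsScalarTower.of_algebraMap_eq fun _ => rfl
      have := hred L
      exact isReduced_of_injective (Algebra.TensorProduct.cancelBaseChange A K L L B).toAlgHom.toRingHom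
        (Algebra.TensorProduct.cancelBaseChange A K L L B).injective
    have h2 : IsReduced ((K ⊗[A] (⨂[A] _ : Fin d, B)) ⊗[A] B) :=
      isReduced_of_injective
        (Algebra.TensorProduct.cancelBaseChange A K (K ⊗[A] (⨂[A] _ : Fin d, B))
          (K ⊗[A] (⨂[A] _ : Fin d, B)) B).symm.toAlgHom.toRingHom
        (Algebra.TensorProduct.cancelBaseChange A K (K ⊗[A] (⨂[A] _ : Fin d, B))
          (K ⊗[A] (⨂[A] _ : Fin d, B)) B).symm.injective
    have h3 : IsReduced (K ⊗[A] ((⨂[A] _ : Fin d, B) ⊗[A] B)) :=
      isReduced_of_injective (Algebra.TensorProduct.assoc A A A K (⨂[A] _ : Fin d, B) B).symm.toAlgHom.toRingHom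
        (Algebra.TensorProduct.assoc A A A K (⨂[A] _ : Fin d, B) B).symm.injective
    have h4 : Function.Injective (Algebra.TensorProduct.map (AlgHom.id A K) (splitAlg A B d)) := by
      have h5 : Function.Injective ((splitLin A B d).lTensor K) := ((splitLin A B d).lTensor K).injective
      intro x y hxy
      apply h5
      have h6 : ∀ z, (splitLin A B d).lTensor K z = Algebra.TensorProduct.map (AlgHom.id A K) (splitAlg A B d) z := by
        intro z
        induction z using TensorProduct.induction_on with
        | zero => simp
        | tmul a b => rfl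
        | add a b ha hb => simp only [map_add, ha, hb]
      rw [h6, h6, hxy]
    exact isReduced_of_injective (Algebra.TensorProduct.map (AlgHom.id A K) (splitAlg A B d)).toRingHom h4

end Main

end K758.TpowRed
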