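import Groth.Agent.ZeroCyc.K758.GammaTS
import Groth.Agent.ZeroCyc.K756.NormMain

/-! The coefficients of the universal law span; comparison with symmetric tensors in general. -/

set_option autoImplicit false
universe u

open scoped TensorProduct
open K758.Coef K757.TSFree K758.SymMod K758.UnivTS

namespace K758.SpanGamma

variable {A : Type u} [CommRing A] {B C : Type u} [CommRing B] [Algebra A B] [CommRing C] [Algebra A C] {d : ℕ}

/-- The coefficients of the universal law span the divided power algebra. -/
theorem coeffSpan_eq_top {γ : PolLaw.MulLaw A B C d} (hγ : PolLaw.IsGammaD γ) : coeffSpan γ.law = ⊤ := by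
  let P := MvPolynomial B A
  let π : P →ₐ[A] B := MvPolynomial.aeval id
  have hπ : Function.Surjective π := fun b => ⟨MvPolynomial.X b, MvPolynomial.aeval_X id b⟩
  let b := MvPolynomial.basisMonomials B A
  let q := K757.TSBasis.liftAlg b (γ.precomp π)
  have hq : Function.Surjective q := K756.NormLaw.liftAlg_surjective (γ := γ) (b := b) (π := π) hγ hπ
  have hq' : PolLaw.postcomp q.toLinearMap (K757.TSBasis.uLaw b d).law = (γ.precomp π).law :=
    K757.TSBasis.postcomp_liftAlg b (γ.precomp π)
  have hu := K757.TSBasis.uLaw_val b d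
  rw [eq_top_iff]
  intro x hx0
  clear hx0
  obtain ⟨t, rfl⟩ := hq x
  have ht : t ∈ Submodule.span A {z : SymTen.TS A P d | ∃ (n : ℕ) (b : Fin n → P) (α : Fin n →₀ ℕ), α.degree = d ∧
      z = tosum d b α} := by
    rw [span_tosum_of_flat]; trivial
  induction ht using Submodule.span_induction with
  | zero => rw [map_zero]; exact Submodule.zero_mem _
  | add x y _ _ hx hy => rw [map_add]; exact Submodule.add_mem _ hx hy
  | smul r x _ hx => rw [map_smul]; exact Submodule.smul_mem _ _ hx
  | mem x hx =>
    obtain ⟨n, p, α, hα, rfl⟩ := hx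
    have h1 : q (tosum d p α) = coeff γ.law (fun k => π (p k)) α := by
      rw [← coeff_tau hu p α hα]
      have h2 := coeff_postcomp q.toLinearMap (K757.TSBasis.uLaw b d).law p α
      rw [hq'] at h2
      refine h2.symm.trans ?_
      exact DFunLike.congr_fun (coeff_precomp γ.law π.toLinearMap p) α
    rw [h1]
    exact coeff_mem_coeffSpan _ _ _

/-- The trace identities between the divided power algebra and the symmetric tensors. -/
theorem factorial_statements {γ : PolLaw.MulLaw A B C d} (hγ : PolLaw.IsGammaD γ) {φ : C →ₐ[A] SymTen.TS A B d}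
    (hφ : PolLaw.postcomp ((SymTen.TS A B d).val.comp φ).toLinearMap γ.law = (SymTen.tpowLaw A B d).law) :
    (∀ x : C, psi γ.homog (φ x : ⨂[A] _ : Fin d, B) = d.factorial • x) ∧
      ∀ z : ⨂[A] _ : Fin d, B, (φ (psi γ.homog z) : ⨂[A] _ : Fin d, B) = tr A B d z := by
  have h1 : ∀ (κ : Type) [Fintype κ] (b : κ → B) (α : κ →₀ ℕ), α.degree = d →
      (φ (coeff γ.law b α) : ⨂[A] _ : Fin d, B) = osum A d b α := by
    intro κ _ b α hα
    rw [← coeff_tpowLaw b α hα, ← hφ, coeff_postcomp]
    rfl
  constructor
  · intro x
    have hx : x ∈ coeffSpan γ.law := by rw [coeffSpan_eq_top hγ]; trivial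
    induction hx using Submodule.span_induction with
    | zero => simp
    | add x y _ _ hx hy =>
      rw [map_add, AddMemClass.coe_add, map_add, hx, hy, nsmul_add]
    | smul r x _ hx =>
      rw [map_smul, SetLike.val_smul, map_smul, hx, smul_comm]
    | mem x hx =>
      obtain ⟨n, b, α, rfl⟩ := hx
      by_cases hα : α.degree = d
      · rw [h1 _ b α hα, psi_osum γ.homog b α hα]
      · rw [coeff_eq_zero γ.homog b α hα]
        simp
  · intro z
    induction z using PiTensorProduct.induction_on with
    | smul_tprod r f =>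
      rw [map_smul, map_smul, SetLike.val_smul, map_smul, psi_tprod, h1 _ f (ones d) (degree_ones d), osum_ones]
    | add x y hx hy => rw [map_add, map_add, AddMemClass.coe_add, map_add, hx, hy]

end K758.SpanGamma
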