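import Groth.Agent.ZeroCyc.K758.Psi
import Groth.Agent.ZeroCyc.K758.SymFlat

/-! The universal law `x ↦ x ⊗ ⋯ ⊗ x` into the symmetric tensors, for flat algebras or `d!` invertible. -/

set_option autoImplicit false
universe u

open scoped TensorProduct
open K758.Coef K757.TSFree K758.SymMod

namespace K758.UnivTS

section Gen

variable {A : Type u} [CommRing A] {B C : Type u} [CommRing B] [Algebra A B] [CommRing C] [Algebra A C] {d : ℕ}

/-- A criterion for `IsGammaD`: the coefficients span and every law factors linearly. -/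
theorem isGammaD_of_linear (γ : PolLaw.MulLaw A B C d) (hspan : coeffSpan γ.law = ⊤)
    (hlin : ∀ (C' : Type u) [CommRing C'] [Algebra A C'] (F : PolLaw.MulLaw A B C' d),
      ∃ L : C →ₗ[A] C', PolLaw.postcomp L γ.law = F.law) : PolLaw.IsGammaD γ := by
  intro C' _ _ F
  obtain ⟨L, hL⟩ := hlin C' F
  refine ⟨algHomOfComp γ.mult hspan F.mult L hL, ?_, fun g hg => ?_⟩
  · have h0 : (algHomOfComp γ.mult hspan F.mult L hL).toLinearMap = L := rfl
    simp only
    rw [h0, hL]
  · apply AlgHom.toLinearMap_injective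
    have h1 : ∀ x ∈ coeffSpan γ.law, g.toLinearMap x = (algHomOfComp γ.mult hspan F.mult L hL).toLinearMap x := by
      intro x hx
      induction hx using Submodule.span_induction with
      | zero => simp
      | add x y _ _ hx hy => rw [map_add, map_add, hx, hy]
      | smul r x _ hx => rw [map_smul, map_smul, hx]
      | mem x hx =>
        obtain ⟨n, b, α, rfl⟩ := hx
        have h0 : (algHomOfComp γ.mult hspan F.mult L hL).toLinearMap = L := rfl
        rw [h0, ← coeff_postcomp, ← coeff_postcomp, hL, hg]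
    exact LinearMap.ext fun x => h1 x (hspan ▸ Submodule.mem_top)

/-- Linear maps with the same values on coefficients of degree `d` define the same law. -/
theorem postcomp_eq_of_coeff {M N P : Type u} [AddCommGroup M] [Module A M] [AddCommGroup N] [Module A N]
    [AddCommGroup P] [Module A P] {F : M →ₚₗ[A] N} {G : M →ₚₗ[A] P} (hF : PolLaw.IsHomog F d)
    (hG : PolLaw.IsHomog G d) (L : N →ₗ[A] P)
    (h : ∀ (n : ℕ) (b : Fin n → M) (α : Fin n →₀ ℕ), α.degree = d → L (coeff F b α) = coeff G b α) :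
    PolLaw.postcomp L F = G := by
  refine ext_of_coeff fun n b α => ?_
  rw [coeff_postcomp]
  by_cases hα : α.degree = d
  · exact h n b α hα
  · rw [coeff_eq_zero hF b α hα, coeff_eq_zero hG b α hα, map_zero]

variable (A B d) in
/-- Purity of the symmetric tensors. -/
def PureTS : Prop := ∀ (N : Type u) [AddCommGroup N] [Module A N],
  Function.Injective ((SymTen.TS A B d).val.toLinearMap.lTensor N)

theorem pureTS_of_sym (h : ∀ (N : Type u) [AddCommGroup N] [Module A N],
    Function.Injective ((Sym A B d).subtype.lTensor N)) : PureTS A B d := by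
  intro N _ _
  have h1 : Subalgebra.toSubmodule (SymTen.TS A B d) = Sym A B d := by
    ext t
    exact (Sym_eq_TS t).symm
  have h2 : Function.Injective ((Subalgebra.toSubmodule (SymTen.TS A B d)).subtype.lTensor N) := by
    rw [h1]; exact h N
  exact h2

theorem PureTS.semiring (hp : PureTS A B d) (S : Type u) [CommSemiring S] [Algebra A S] :
    Function.Injective ((SymTen.TS A B d).val.toLinearMap.lTensor S) := by
  let : AddCommGroup S := Module.addCommMonoidToAddCommGroup A
  exact hp S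

theorem exists_tau (hp : PureTS A B d) : ∃ τ : PolLaw.MulLaw A B (SymTen.TS A B d) d,
    PolLaw.postcomp (SymTen.TS A B d).val.toLinearMap τ.law = (SymTen.tpowLaw A B d).law := by
  have hle : coeffSpan (SymTen.tpowLaw A B d).law ≤ Subalgebra.toSubmodule (SymTen.TS A B d) := by
    refine Submodule.span_le.2 ?_
    rintro _ ⟨n, b, α, rfl⟩
    by_cases hα : α.degree = d
    · rw [coeff_tpowLaw b α hα]
      exact (Sym_eq_TS _).1 (osum_mem b α)
    · rw [coeff_eq_zero (SymTen.tpowLaw A B d).homog b α hα]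
      exact Submodule.zero_mem _
  obtain ⟨G, hG⟩ := exists_factor_of_coeffSpan_le (SymTen.tpowLaw A B d).law
    (Subalgebra.toSubmodule (SymTen.TS A B d)) hle (fun S _ _ => hp S)
  let G' : B →ₚₗ[A] (SymTen.TS A B d) := G
  have hG' : ∀ (S : Type u) [CommSemiring S] [Algebra A S] (x : S ⊗[A] B),
      (SymTen.TS A B d).val.toLinearMap.lTensor S (G'.toFun' S x) = (SymTen.tpowLaw A B d).law.toFun' S x := by
    intro S _ _ x
    rw [← hG]
    rfl
  refine ⟨{ law := G'
            homog := ?_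
            mult := ?_ }, ?_⟩
  · intro S _ _ s x
    apply hp.semiring S
    rw [hG', (SymTen.tpowLaw A B d).homog, ← hG', PolLaw.lTensor_algHom_apply, PolLaw.lTensor_algHom_apply, map_smul]
  · intro S _ _
    refine ⟨?_, fun x y => ?_⟩
    · apply hp.semiring S
      rw [hG', ((SymTen.tpowLaw A B d).mult S).1, PolLaw.lTensor_algHom_apply, map_one]
    · apply hp.semiring S
      rw [hG', ((SymTen.tpowLaw A B d).mult S).2, ← hG', ← hG', PolLaw.lTensor_algHom_apply,
        PolLaw.lTensor_algHom_apply, PolLaw.lTensor_algHom_apply, map_mul]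
  · exact hG

/-- The orbit sum as an element of `TS`. -/
noncomputable def tosum {κ : Type} [Fintype κ] (d : ℕ) (b : κ → B) (α : κ →₀ ℕ) : SymTen.TS A B d :=
  ⟨osum A d b α, (Sym_eq_TS _).1 (osum_mem b α)⟩

theorem coeff_tau {τ : PolLaw.MulLaw A B (SymTen.TS A B d) d}
    (hτ : PolLaw.postcomp (SymTen.TS A B d).val.toLinearMap τ.law = (SymTen.tpowLaw A B d).law)
    {κ : Type} [Fintype κ] (b : κ → B) (α : κ →₀ ℕ) (hα : α.degree = d) : coeff τ.law b α = tosum d b α := by
  apply Subtype.ext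
  have h1 : ((SymTen.TS A B d).val.toLinearMap) (coeff τ.law b α) = osum A d b α := by
    rw [← coeff_postcomp, hτ, coeff_tpowLaw b α hα]
  exact h1

/-- The explicit formula for the law. -/
theorem tau_formula {τ : PolLaw.MulLaw A B (SymTen.TS A B d) d}
    (hτ : PolLaw.postcomp (SymTen.TS A B d).val.toLinearMap τ.law = (SymTen.tpowLaw A B d).law)
    (S : Type u) [CommSemiring S] [Algebra A S] (n : ℕ) (s : Fin n → S) (b : Fin n → B) :
    (SymTen.TS A B d).val.toLinearMap.lTensor S (τ.law.toFun' S (∑ j, s j ⊗ₜ[A] b j)) =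
      ∑ c : Fin d → Fin n, (∏ i, s (c i)) ⊗ₜ[A] PiTensorProduct.tprod A (fun i => b (c i)) := by
  have h1 : (SymTen.TS A B d).val.toLinearMap.lTensor S (τ.law.toFun' S (∑ j, s j ⊗ₜ[A] b j)) =
      (SymTen.tpowLaw A B d).law.toFun' S (∑ j, s j ⊗ₜ[A] b j) := by
    rw [← hτ]; rfl
  rw [h1, tpowLaw_sum]

end Gen

section Flat

variable {A : Type u} [CommRing A] {B : Type u} [CommRing B] [Algebra A B] {d : ℕ}

variable (A B d) in
theorem pureTS_of_flat [Module.Flat A B] : PureTS A B d :=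
  pureTS_of_sym fun N _ _ => lTensor_subtype_injective_of_flat d N

theorem span_tosum_of_flat [Module.Flat A B] :
    Submodule.span A {z : SymTen.TS A B d | ∃ (n : ℕ) (b : Fin n → B) (α : Fin n →₀ ℕ), α.degree = d ∧
      z = tosum d b α} = ⊤ := by
  rw [eq_top_iff]
  intro z _
  have h := span_sosum_of_flat (A := A) (M := B) d
  have hz : (⟨z.1, (Sym_eq_TS _).2 z.2⟩ : Sym A B d) ∈ Submodule.span A {z : Sym A B d |
      ∃ (n : ℕ) (b : Fin n → B) (α : Fin n →₀ ℕ), α.degree = d ∧ z = sosum d b α} := by rw [h]; trivial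
  let ι : Sym A B d →ₗ[A] SymTen.TS A B d :=
    { toFun := fun z => ⟨z.1, (Sym_eq_TS _).1 z.2⟩
      map_add' := fun _ _ => rfl
      map_smul' := fun _ _ => rfl }
  have h2 := Submodule.mem_map_of_mem (f := ι) hz
  rw [Submodule.map_span] at h2
  refine Submodule.span_mono ?_ h2
  rintro _ ⟨_, ⟨n, b, α, hα, rfl⟩, rfl⟩
  exact ⟨n, b, α, hα, rfl⟩

theorem exists_linear_of_flat [Module.Flat A B] {N : Type u} [AddCommGroup N] [Module A N] {F : B →ₚₗ[A] N}
    (hF : PolLaw.IsHomog F d) : ∃ L : SymTen.TS A B d →ₗ[A] N,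
      ∀ (κ : Type) [Fintype κ] (b : κ → B) (α : κ →₀ ℕ), α.degree = d → L (tosum d b α) = coeff F b α := by
  obtain ⟨L, hL⟩ := exists_lift_of_flat hF
  let ι : SymTen.TS A B d →ₗ[A] Sym A B d :=
    { toFun := fun z => ⟨z.1, (Sym_eq_TS _).2 z.2⟩
      map_add' := fun _ _ => rfl
      map_smul' := fun _ _ => rfl }
  exact ⟨L ∘ₗ ι, fun κ _ b α hα => hL κ b α hα⟩

end Flat

section Inv

variable {A : Type u} [CommRing A] {B : Type u} [CommRing B] [Algebra A B] {d : ℕ}

theorem tr_mem_TS (z : ⨂[A] _ : Fin d, B) : tr A B d z ∈ SymTen.TS A B d := (Sym_eq_TS _).1 (tr_mem z)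

variable (A B d) in
theorem pureTS_of_isUnit (hu : IsUnit ((d.factorial : ℕ) : A)) : PureTS A B d := by
  intro N _ _
  obtain ⟨u, hu⟩ := hu
  let ρ : (⨂[A] _ : Fin d, B) →ₗ[A] SymTen.TS A B d :=
    { toFun := fun z => (↑u⁻¹ : A) • (⟨tr A B d z, tr_mem_TS z⟩ : SymTen.TS A B d)
      map_add' := fun x y => by
        rw [← smul_add]; congr 1
        exact Subtype.ext (map_add _ _ _)
      map_smul' := fun r x => by
        rw [RingHom.id_apply, smul_comm]; congr 1
        exact Subtype.ext (map_smul _ _ _) }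
  have hρ : ρ ∘ₗ (SymTen.TS A B d).val.toLinearMap = LinearMap.id := by
    ext z
    show (((↑u⁻¹ : A) • (⟨tr A B d z.1, tr_mem_TS z.1⟩ : SymTen.TS A B d) : SymTen.TS A B d) : ⨂[A] _ : Fin d, B) = z.1
    rw [SetLike.val_smul]
    simp only
    rw [tr_of_mem ((Sym_eq_TS _).2 z.2), ← Nat.cast_smul_eq_nsmul A, ← hu, smul_smul, Units.inv_mul, one_smul]
  refine Function.LeftInverse.injective (g := ρ.lTensor N) fun z => ?_
  rw [← LinearMap.comp_apply, ← LinearMap.lTensor_comp, hρ, LinearMap.lTensor_id, LinearMap.id_apply]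

theorem span_tosum_of_isUnit (hu : IsUnit ((d.factorial : ℕ) : A)) :
    Submodule.span A {z : SymTen.TS A B d | ∃ (n : ℕ) (b : Fin n → B) (α : Fin n →₀ ℕ), α.degree = d ∧
      z = tosum d b α} = ⊤ := by
  obtain ⟨u, hu⟩ := hu
  rw [eq_top_iff]
  intro z _
  have h1 : ∀ w : ⨂[A] _ : Fin d, B, (⟨tr A B d w, tr_mem_TS w⟩ : SymTen.TS A B d) ∈
      Submodule.span A {z : SymTen.TS A B d | ∃ (n : ℕ) (b : Fin n → B) (α : Fin n →₀ ℕ), α.degree = d ∧
      z = tosum d b α} := by
    intro w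
    induction w using PiTensorProduct.induction_on with
    | smul_tprod r f =>
      have h2 : (⟨tr A B d (r • PiTensorProduct.tprod A f), tr_mem_TS _⟩ : SymTen.TS A B d) = r • tosum d f (ones d) := by
        refine Subtype.ext ?_
        show tr A B d (r • PiTensorProduct.tprod A f) = r • osum A d f (ones d)
        rw [osum_ones, map_smul]
      rw [h2]
      exact Submodule.smul_mem _ _ (Submodule.subset_span ⟨d, f, ones d, degree_ones d, rfl⟩)
    | add x y hx hy =>
      have h2 : (⟨tr A B d (x + y), tr_mem_TS _⟩ : SymTen.TS A B d) = ⟨tr A B d x, tr_mem_TS _⟩ + ⟨tr A B d y, tr_mem_TS _⟩ :=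
        Subtype.ext (map_add _ _ _)
      rw [h2]
      exact Submodule.add_mem _ hx hy
  have h3 : z = (↑u⁻¹ : A) • (⟨tr A B d z.1, tr_mem_TS z.1⟩ : SymTen.TS A B d) := by
    refine Subtype.ext ?_
    rw [SetLike.val_smul]
    simp only
    rw [tr_of_mem ((Sym_eq_TS _).2 z.2), ← Nat.cast_smul_eq_nsmul A, ← hu, smul_smul, Units.inv_mul, one_smul]
  rw [h3]
  exact Submodule.smul_mem _ _ (h1 _)

theorem exists_linear_of_isUnit (hu : IsUnit ((d.factorial : ℕ) : A)) {N : Type u} [AddCommGroup N] [Module A N]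
    {F : B →ₚₗ[A] N} (hF : PolLaw.IsHomog F d) : ∃ L : SymTen.TS A B d →ₗ[A] N,
      ∀ (κ : Type) [Fintype κ] (b : κ → B) (α : κ →₀ ℕ), α.degree = d → L (tosum d b α) = coeff F b α := by
  obtain ⟨u, hu⟩ := hu
  refine ⟨(↑u⁻¹ : A) • (psi hF ∘ₗ (SymTen.TS A B d).val.toLinearMap), fun κ _ b α hα => ?_⟩
  rw [LinearMap.smul_apply, LinearMap.comp_apply]
  show (↑u⁻¹ : A) • psi hF (osum A d b α) = _
  rw [psi_osum hF b α hα, ← Nat.cast_smul_eq_nsmul A, ← hu, smul_smul, Units.inv_mul, one_smul]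

end Inv

section Main

variable {A : Type u} [CommRing A] {B : Type u} [CommRing B] [Algebra A B] {d : ℕ}

/-- The symmetric tensors with the tensor power law are the divided power algebra, in the abstract situation. -/
theorem isGammaD_tau
    (hspan : Submodule.span A {z : SymTen.TS A B d | ∃ (n : ℕ) (b : Fin n → B) (α : Fin n →₀ ℕ), α.degree = d ∧
      z = tosum d b α} = ⊤)
    (hlin : ∀ (N : Type u) [AddCommGroup N] [Module A N] (F : B →ₚₗ[A] N) (_ : PolLaw.IsHomog F d),
      ∃ L : SymTen.TS A B d →ₗ[A] N,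
      ∀ (κ : Type) [Fintype κ] (b : κ → B) (α : κ →₀ ℕ), α.degree = d → L (tosum d b α) = coeff F b α)
    (τ : PolLaw.MulLaw A B (SymTen.TS A B d) d)
    (hτ : PolLaw.postcomp (SymTen.TS A B d).val.toLinearMap τ.law = (SymTen.tpowLaw A B d).law) :
    coeffSpan τ.law = ⊤ ∧ PolLaw.IsGammaD τ ∧
      ∀ (N : Type u) [AddCommGroup N] [Module A N] (F : B →ₚₗ[A] N) (_ : PolLaw.IsHomog F d),
        ∃ L : SymTen.TS A B d →ₗ[A] N, PolLaw.postcomp L τ.law = F := by
  have h1 : coeffSpan τ.law = ⊤ := by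
    rw [eq_top_iff, ← hspan]
    refine Submodule.span_mono ?_
    rintro _ ⟨n, b, α, hα, rfl⟩
    exact ⟨n, b, α, (coeff_tau hτ b α hα).symm⟩
  have h2 : ∀ (N : Type u) [AddCommGroup N] [Module A N] (F : B →ₚₗ[A] N) (_ : PolLaw.IsHomog F d),
        ∃ L : SymTen.TS A B d →ₗ[A] N, PolLaw.postcomp L τ.law = F := by
    intro N _ _ F hF
    obtain ⟨L, hL⟩ := hlin N F hF
    refine ⟨L, postcomp_eq_of_coeff τ.homog hF L fun n b α hα => ?_⟩
    rw [coeff_tau hτ b α hα, hL _ b α hα]
  exact ⟨h1, isGammaD_of_linear τ h1 fun C' _ _ F => h2 C' F.law F.homog, h2⟩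

end Main

end K758.UnivTS
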