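import Groth.Agent.ZeroCyc.K758.SpanGamma
import Mathlib.FieldTheory.IsAlgClosed.Basic
import Mathlib.FieldTheory.IsAlgClosed.AlgebraicClosure

/-! Field-valued points of the symmetric tensors and the values on orbit sums. -/

set_option autoImplicit false
universe u

open scoped TensorProduct
open K758.Coef K757.TSFree K758.SymMod K758.UnivTS

namespace K758.ResField

/-- Extension of a homomorphism to an algebraically closed field along an integral injection. -/
theorem exists_extension {R S Ω : Type u} [CommRing R] [CommRing S] [Algebra R S] [Algebra.IsIntegral R S]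
    [FaithfulSMul R S] [Field Ω] [IsAlgClosed Ω] (g : R →+* Ω) :
    ∃ G : S →+* Ω, G.comp (algebraMap R S) = g := by
  set P := RingHom.ker g with hP
  have hPp : P.IsPrime := RingHom.ker_isPrime g
  obtain ⟨Q, hQ0, hQ1, hQ⟩ := Ideal.exists_ideal_over_prime_of_isIntegral (S := S) P ⊥ (by
    rw [← RingHom.ker_eq_comap_bot, (RingHom.injective_iff_ker_eq_bot _).1 (FaithfulSMul.algebraMap_injective R S)]
    exact bot_le)
  have : Q.LiesOver P := ⟨hQ.symm⟩
  let _ : Algebra (R ⧸ P) Ω := (Ideal.Quotient.lift P g (fun _ h => h)).toAlgebra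
  have h1 : FaithfulSMul (R ⧸ P) Ω := by
    rw [faithfulSMul_iff_algebraMap_injective]
    exact RingHom.lift_injective_of_ker_le_ideal P (fun _ h => h) le_rfl
  have h2 : Algebra.IsIntegral (R ⧸ P) (S ⧸ Q) := inferInstance
  have h3 : Algebra.IsAlgebraic (R ⧸ P) (S ⧸ Q) := inferInstance
  let G : (S ⧸ Q) →ₐ[R ⧸ P] Ω := IsAlgClosed.lift
  refine ⟨G.toRingHom.comp (Ideal.Quotient.mk Q), ?_⟩
  refine RingHom.ext fun a => ?_
  change G (Ideal.Quotient.mk Q (algebraMap R S a)) = g a
  have : Ideal.Quotient.mk Q (algebraMap R S a) =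
      algebraMap (R ⧸ P) (S ⧸ Q) (Ideal.Quotient.mk P a) := rfl
  rw [this, AlgHom.commutes]
  rfl

theorem reindex_mul {A M : Type u} [CommRing A] [AddCommGroup M] [Module A M] {d : ℕ} (τ σ : Equiv.Perm (Fin d))
    (z : ⨂[A] _ : Fin d, M) :
    PiTensorProduct.reindex A (fun _ : Fin d => M) τ (PiTensorProduct.reindex A (fun _ : Fin d => M) σ z) =
      PiTensorProduct.reindex A (fun _ : Fin d => M) (τ * σ) z := by
  induction z using PiTensorProduct.induction_on with
  | smul_tprod r g => simp only [map_smul, PiTensorProduct.reindex_tprod]; rfl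
  | add x y hx hy => simp only [map_add, hx, hy]

theorem reindex_one {A M : Type u} [CommRing A] [AddCommGroup M] [Module A M] {d : ℕ}
    (z : ⨂[A] _ : Fin d, M) : PiTensorProduct.reindex A (fun _ : Fin d => M) (1 : Equiv.Perm (Fin d)) z = z := by
  induction z using PiTensorProduct.induction_on with
  | smul_tprod r g => simp only [map_smul, PiTensorProduct.reindex_tprod]; rfl
  | add x y hx hy => simp only [map_add, hx, hy]

/-- The tensor power is integral over the symmetric tensors. -/
theorem isIntegral_TS (A B : Type u) [CommRing A] [CommRing B] [Algebra A B] (d : ℕ) :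
    Algebra.IsIntegral (SymTen.TS A B d) (⨂[A] _ : Fin d, B) := by
  refine ⟨fun z => ?_⟩
  let P : Polynomial (⨂[A] _ : Fin d, B) :=
    ∏ σ : Equiv.Perm (Fin d), (Polynomial.X - Polynomial.C (SymTen.perm A B d σ z))
  have hm : P.Monic := Polynomial.monic_prod_of_monic _ _ fun σ _ => Polynomial.monic_X_sub_C _
  have hinv : ∀ τ : Equiv.Perm (Fin d), P.map (SymTen.perm A B d τ).toRingHom = P := by
    intro τ
    have h1 : P.map (SymTen.perm A B d τ).toRingHom =
        ∏ σ : Equiv.Perm (Fin d), (Polynomial.X - Polynomial.C (SymTen.perm A B d (τ * σ) z)) := by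
      rw [Polynomial.map_prod]
      refine Finset.prod_congr rfl fun σ _ => ?_
      rw [Polynomial.map_sub, Polynomial.map_X, Polynomial.map_C]
      congr 2
      show SymTen.perm A B d τ (SymTen.perm A B d σ z) = SymTen.perm A B d (τ * σ) z
      rw [SymTen.perm_apply, SymTen.perm_apply, SymTen.perm_apply, reindex_mul]
    rw [h1]
    exact Fintype.prod_equiv (Equiv.mulLeft τ) _ _ (fun σ => rfl)
  have hc : P ∈ Polynomial.lifts (algebraMap (SymTen.TS A B d) (⨂[A] _ : Fin d, B)) := by
    rw [Polynomial.lifts_iff_coeff_lifts]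
    intro n
    refine ⟨⟨P.coeff n, ?_⟩, rfl⟩
    rw [SymTen.mem_TS_iff]
    intro τ
    have h2 := congrArg (fun Q => Polynomial.coeff Q n) (hinv τ)
    simp only [Polynomial.coeff_map] at h2
    rw [← SymTen.perm_apply]
    exact h2
  obtain ⟨Q, hQ, _, hQm⟩ := Polynomial.lifts_and_natDegree_eq_and_monic hc hm
  refine ⟨Q, hQm, ?_⟩
  rw [← Polynomial.eval_map, hQ, Polynomial.eval_prod]
  refine Finset.prod_eq_zero (Finset.mem_univ 1) ?_
  rw [Polynomial.eval_sub, Polynomial.eval_X, Polynomial.eval_C, SymTen.perm_apply]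
  rw [sub_eq_zero]
  exact (reindex_one z).symm

section Span

variable {A : Type u} [CommRing A] {M : Type u} [AddCommGroup M] [Module A M] {d : ℕ}

theorem exists_common (W : Set M) (hW : Submodule.span A W = ⊤) {n : ℕ} (b : Fin n → M) :
    ∃ (m : ℕ) (e : Fin m → M) (a : Fin n → Fin m → A), (∀ j, e j ∈ W) ∧ ∀ k, b k = ∑ j, a k j • e j := by
  classical
  have h : ∀ k, b k ∈ Submodule.span A W := fun k => by rw [hW]; trivial
  choose f hf using fun k => (Finsupp.mem_span_iff_linearCombination A W (b k)).1 (h k)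
  let T : Finset W := Finset.univ.biUnion fun k => (f k).support
  refine ⟨T.card, fun j => ((T.equivFin.symm j : T) : W), fun k j => f k (T.equivFin.symm j : T),
    fun j => ((T.equivFin.symm j : T) : W).2, fun k => ?_⟩
  have h1 : (f k).sum (fun i a => a • (i : M)) = ∑ i ∈ T, f k i • (i : M) :=
    Finsupp.sum_of_support_subset _ (Finset.subset_biUnion_of_mem (fun k => (f k).support) (Finset.mem_univ k)) _
      (fun _ _ => zero_smul _ _)
  rw [← hf k, Finsupp.linearCombination_apply, h1, ← Finset.sum_coe_sort T]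
  exact (Equiv.sum_comp T.equivFin.symm (fun i : T => f k i • ((i : W) : M))).symm

/-- The orbit sums of families with values in a spanning set span all orbit sums. -/
theorem osum_mem_span (W : Set M) (hW : Submodule.span A W = ⊤) {n : ℕ} (b : Fin n → M) (α : Fin n →₀ ℕ)
    (hα : α.degree = d) :
    osum A d b α ∈ Submodule.span A {z | ∃ (m : ℕ) (e : Fin m → M) (β : Fin m →₀ ℕ), (∀ i, e i ∈ W) ∧ β.degree = d ∧
      z = osum A d e β} := by
  classical
  obtain ⟨m, e, a, he, hb⟩ := exists_common W hW b
  have h1 := sum_tprod_eq (d := d) (A := A) (S := MvPolynomial (Fin n) A) (fun k => MvPolynomial.X k) b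
  have h2 := sum_tprod_linear (d := d) (A := A) (S := MvPolynomial (Fin n) A) (fun k => MvPolynomial.X k) a e
  have h3 := sum_tprod_eq (d := d) (A := A) (S := MvPolynomial (Fin n) A)
    (fun j => ∑ k, a k j • MvPolynomial.X k) e
  simp only [← hb] at h2
  have h4 := (h1.symm.trans h2).trans h3
  have h5 := congrArg (fun z => cf z α) h4
  simp only [map_sum, Finsupp.finsetSum_apply, cf_tmul] at h5
  rw [Finset.sum_eq_single α] at h5
  · have h6 : MvPolynomial.coeff α (∏ j, (MvPolynomial.X j : MvPolynomial (Fin n) A) ^ α j) = 1 := by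
      have : (∏ j, (MvPolynomial.X j : MvPolynomial (Fin n) A) ^ α j) = MvPolynomial.monomial α 1 := by
        rw [MvPolynomial.monomial_eq, map_one, one_mul, Finsupp.prod_fintype _ _ (fun i => pow_zero _)]
      rw [this, MvPolynomial.coeff_monomial, if_pos rfl]
    rw [h6, one_smul] at h5
    rw [h5]
    refine Submodule.sum_mem _ fun β hβ => Submodule.smul_mem _ _ (Submodule.subset_span ⟨m, e, β, he, ?_, rfl⟩)
    rw [Finset.mem_finsuppAntidiag] at hβ
    rw [Finsupp.degree_eq_sum]
    exact hβ.1
  · intro β _ hβ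
    have : (∏ j, (MvPolynomial.X j : MvPolynomial (Fin n) A) ^ β j) = MvPolynomial.monomial β 1 := by
      rw [MvPolynomial.monomial_eq, map_one, one_mul, Finsupp.prod_fintype _ _ (fun i => pow_zero _)]
    rw [this, MvPolynomial.coeff_monomial, if_neg hβ, zero_smul]
  · intro h
    refine absurd ?_ h
    rw [Finset.mem_finsuppAntidiag]
    exact ⟨by rw [← Finsupp.degree_eq_sum, hα], Finset.subset_univ _⟩

/-- Over a flat module the orbit sums of families with values in a spanning set span the symmetric tensors. -/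
theorem mem_span_osum_of_flat [Module.Flat A M] (W : Set M) (hW : Submodule.span A W = ⊤) {z : ⨂[A] _ : Fin d, M}
    (hz : z ∈ Sym A M d) :
    z ∈ Submodule.span A {z | ∃ (m : ℕ) (e : Fin m → M) (β : Fin m →₀ ℕ), (∀ i, e i ∈ W) ∧ β.degree = d ∧
      z = osum A d e β} := by
  have h : (⟨z, hz⟩ : Sym A M d) ∈ Submodule.span A {z : Sym A M d | ∃ (n : ℕ) (b : Fin n → M) (α : Fin n →₀ ℕ),
      α.degree = d ∧ z = sosum d b α} := by
    rw [span_sosum_of_flat]; trivial
  have h2 := Submodule.mem_map_of_mem (f := (Sym A M d).subtype) h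
  rw [Submodule.map_span] at h2
  refine Submodule.span_le.2 ?_ h2
  rintro _ ⟨_, ⟨n, b, α, hα, rfl⟩, rfl⟩
  exact osum_mem_span W hW b α hα

end Span

section Points

variable {A : Type u} [CommRing A] {B : Type u} [CommRing B] [Algebra A B] {d : ℕ}
  {L Ω : Type u} [Field L] [Algebra A L] [Field Ω] [Algebra A Ω] [Algebra L Ω] [IsScalarTower A L Ω]

variable (A B L d) in
/-- Base change of tensors, linear over the small ring. -/
noncomputable def beta : (⨂[A] _ : Fin d, B) →ₗ[A] (⨂[L] _ : Fin d, L ⊗[A] B) :=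
  PiTensorProduct.lift (((PiTensorProduct.tprod L).restrictScalars A).compLinearMap
    (fun _ => TensorProduct.mk A L B 1))

theorem beta_tprod (f : Fin d → B) : beta A B d L (PiTensorProduct.tprod A f) =
    PiTensorProduct.tprod L (fun i => (1 : L) ⊗ₜ[A] f i) := by
  rw [beta, PiTensorProduct.lift.tprod]
  rfl

theorem beta_osum {n : ℕ} (b : Fin n → B) (α : Fin n →₀ ℕ) :
    beta A B d L (osum A d b α) = osum L d (fun k => (1 : L) ⊗ₜ[A] b k) α := by
  classical
  rw [osum, osum, map_sum]
  refine Finset.sum_congr rfl fun c _ => ?_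
  rw [beta_tprod]

theorem beta_mem {y : ⨂[A] _ : Fin d, B} (hy : y ∈ Sym A B d) : beta A B d L y ∈ Sym L (L ⊗[A] B) d := by
  rw [mem_Sym] at hy ⊢
  intro σ
  have h : ∀ z : ⨂[A] _ : Fin d, B, PiTensorProduct.reindex L (fun _ : Fin d => L ⊗[A] B) σ (beta A B d L z) =
      beta A B d L (PiTensorProduct.reindex A (fun _ : Fin d => B) σ z) := by
    intro z
    induction z using PiTensorProduct.induction_on with
    | smul_tprod r f =>
      rw [LinearMap.map_smul, LinearEquiv.map_smul, LinearMap.map_smul, beta_tprod, PiTensorProduct.reindex_tprod,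
        beta_tprod, ← algebraMap_smul L r, LinearEquiv.map_smul, PiTensorProduct.reindex_tprod, algebraMap_smul]
    | add x y hx hy => simp only [map_add, hx, hy]
  rw [h, hy σ]

/-- The key lemma: values of a point of the tensor power at symmetric tensors lie in every intermediate field
containing the values at the orbit sums. -/
theorem mem_range_of_osum (G : (⨂[A] _ : Fin d, B) →ₐ[A] Ω)
    (hG : ∀ (n : ℕ) (b : Fin n → B) (α : Fin n →₀ ℕ), α.degree = d → G (osum A d b α) ∈ (algebraMap L Ω).range)
    {y : ⨂[A] _ : Fin d, B} (hy : y ∈ Sym A B d) : G y ∈ (algebraMap L Ω).range := by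
  let h : Fin d → B →ₐ[A] Ω := fun i => G.comp (PiTensorProduct.singleAlgHom (A := fun _ : Fin d => B) i)
  let h' : Fin d → L ⊗[A] B →ₐ[L] Ω := fun i => Algebra.TensorProduct.lift (Algebra.ofId L Ω) (h i)
    (fun _ _ => Commute.all _ _)
  let G' : (⨂[L] _ : Fin d, L ⊗[A] B) →ₗ[L] Ω := PiTensorProduct.lift
    ((MultilinearMap.mkPiAlgebra L (Fin d) Ω).compLinearMap (fun i => (h' i).toLinearMap))
  have hG' : ∀ f : Fin d → L ⊗[A] B, G' (PiTensorProduct.tprod L f) = ∏ i, h' i (f i) := by
    intro f
    show PiTensorProduct.lift _ _ = _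
    rw [PiTensorProduct.lift.tprod]
    rfl
  have hcomp : ∀ z : ⨂[A] _ : Fin d, B, G' (beta A B d L z) = G z := by
    intro z
    induction z using PiTensorProduct.induction_on with
    | smul_tprod r f =>
      rw [LinearMap.map_smul, beta_tprod, ← algebraMap_smul L r, LinearMap.map_smul, hG', algebraMap_smul, map_smul]
      congr 1
      rw [← prod_single, map_prod]
      refine Finset.prod_congr rfl fun i _ => ?_
      show Algebra.TensorProduct.lift _ _ _ _ = _
      rw [Algebra.TensorProduct.lift_tmul, map_one, one_mul]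
      rfl
    | add x y hx hy => simp only [map_add, hx, hy]
  let W : Set (L ⊗[A] B) := Set.range fun b : B => (1 : L) ⊗ₜ[A] b
  have hW : Submodule.span L W = ⊤ := by
    rw [eq_top_iff]
    intro x _
    induction x using TensorProduct.induction_on with
    | zero => exact Submodule.zero_mem _
    | tmul l b =>
      have : l ⊗ₜ[A] b = l • ((1 : L) ⊗ₜ[A] b) := by rw [TensorProduct.smul_tmul', smul_eq_mul, mul_one]
      rw [this]
      exact Submodule.smul_mem _ _ (Submodule.subset_span ⟨b, rfl⟩)
    | add x y hx hy => exact Submodule.add_mem _ (hx trivial) (hy trivial)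
  have h1 := mem_span_osum_of_flat W hW (beta_mem (L := L) hy)
  suffices H : ∀ z ∈ Submodule.span L {z | ∃ (m : ℕ) (e : Fin m → L ⊗[A] B) (β : Fin m →₀ ℕ), (∀ i, e i ∈ W) ∧
      β.degree = d ∧ z = osum L d e β}, G' z ∈ (algebraMap L Ω).range by
    rw [← hcomp]
    exact H _ h1
  intro z hz
  induction hz using Submodule.span_induction with
  | zero => exact ⟨0, by simp⟩
  | add x y _ _ hx hy =>
    rw [map_add]
    exact add_mem hx hy
  | smul r x _ hx =>
    rw [map_smul, Algebra.smul_def]
    exact mul_mem ⟨r, rfl⟩ hx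
  | mem x hx =>
    obtain ⟨m, e, β, he, hβ, rfl⟩ := hx
    choose b hb using he
    have h2 : osum L d e β = beta A B d L (osum A d b β) := by
      rw [beta_osum]
      congr 1
      exact funext fun i => (hb i).symm
    rw [h2, hcomp]
    exact hG m b β hβ

end Points

section Main

variable {A : Type u} [CommRing A] {B C : Type u} [CommRing B] [Algebra A B] [CommRing C] [Algebra A C] {d : ℕ}

/-- A subfield containing the values of a point at all orbit sums contains all its values. -/
theorem mem_subfield_of_osum {K : Type u} [Field K] (g : SymTen.TS A B d →+* K) (L : Subfield K)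
    (hA : ∀ a : A, g (algebraMap A _ a) ∈ L)
    (hL : ∀ (n : ℕ) (b : Fin n → B) (α : Fin n →₀ ℕ), α.degree = d → g (tosum d b α) ∈ L)
    (y : SymTen.TS A B d) : g y ∈ L := by
  have := isIntegral_TS A B d
  have : FaithfulSMul (SymTen.TS A B d) (⨂[A] _ : Fin d, B) := by
    rw [faithfulSMul_iff_algebraMap_injective]
    exact Subtype.val_injective
  obtain ⟨G, hG⟩ := exists_extension (S := ⨂[A] _ : Fin d, B) ((algebraMap K (AlgebraicClosure K)).comp g)
  let _ : Algebra A L := ((g.comp (algebraMap A (SymTen.TS A B d))).codRestrict L.toSubring hA).toAlgebra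
  let _ : Algebra A (AlgebraicClosure K) :=
    ((algebraMap K (AlgebraicClosure K)).comp (g.comp (algebraMap A (SymTen.TS A B d)))).toAlgebra
  have : @IsScalarTower A L (AlgebraicClosure K) Algebra.toSMul Algebra.toSMul Algebra.toSMul :=
    IsScalarTower.of_algebraMap_eq fun a => rfl
  let G' : (⨂[A] _ : Fin d, B) →ₐ[A] AlgebraicClosure K :=
    { G with
      commutes' := fun a => by
        have := RingHom.congr_fun hG (algebraMap A _ a)
        exact this }
  have hy : (y : ⨂[A] _ : Fin d, B) ∈ Sym A B d := (Sym_eq_TS _).2 y.2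
  have h := mem_range_of_osum (L := L) G' (fun n b α hα => by
    have h1 : G' (osum A d b α) = algebraMap K (AlgebraicClosure K) (g (tosum d b α)) :=
      RingHom.congr_fun hG (tosum d b α)
    exact ⟨⟨_, hL n b α hα⟩, h1.symm⟩) hy
  obtain ⟨l, hl⟩ := h
  have h2 : G' (y : ⨂[A] _ : Fin d, B) = algebraMap K (AlgebraicClosure K) (g y) := RingHom.congr_fun hG y
  rw [h2] at hl
  have h3 : (l : K) = g y := (algebraMap K (AlgebraicClosure K)).injective hl
  rw [← h3]
  exact l.2

variable {γ : PolLaw.MulLaw A B C d} {φ : C →ₐ[A] SymTen.TS A B d}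

/-- A subfield containing the values of a point at the image of the divided powers contains all its values. -/
theorem mem_subfield (hφ : PolLaw.postcomp ((SymTen.TS A B d).val.comp φ).toLinearMap γ.law = (SymTen.tpowLaw A B d).law)
    {K : Type u} [Field K] (g : SymTen.TS A B d →+* K) (L : Subfield K)
    (hL : ∀ c : C, g (φ c) ∈ L) (y : SymTen.TS A B d) : g y ∈ L := by
  refine mem_subfield_of_osum g L (fun a => ?_) (fun n b α hα => ?_) y
  · rw [← φ.commutes]
    exact hL _
  · have h1 : φ (coeff γ.law b α) = tosum d b α := by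
      refine Subtype.ext ?_
      show _ = osum A d b α
      rw [← coeff_tpowLaw b α hα, ← hφ, coeff_postcomp]
      rfl
    rw [← h1]
    exact hL _

/-- Every value is a fraction of values at the image of the divided powers. -/
theorem exists_frac (hφ : PolLaw.postcomp ((SymTen.TS A B d).val.comp φ).toLinearMap γ.law = (SymTen.tpowLaw A B d).law)
    {K : Type u} [Field K] (g : SymTen.TS A B d →+* K) (y : SymTen.TS A B d) :
    ∃ c₁ c₂ : C, g (φ c₂) ≠ 0 ∧ g (φ c₂ * y - φ c₁) = 0 := by
  have h := mem_subfield hφ g (Subfield.closure (g.comp φ.toRingHom).range) (fun c => Subfield.subset_closure ⟨c, rfl⟩) y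
  rw [Subfield.mem_closure_iff] at h
  obtain ⟨a, ha, b, hb, hab⟩ := h
  rw [Subring.closure_eq] at ha hb
  obtain ⟨c₁, rfl⟩ := ha
  obtain ⟨c₂, rfl⟩ := hb
  by_cases h0 : g (φ c₂) = 0
  · refine ⟨0, 1, by simp, ?_⟩
    have h1 : (g.comp φ.toRingHom) c₂ = 0 := h0
    rw [h1, div_zero] at hab
    simp [← hab]
  · refine ⟨c₁, c₂, h0, ?_⟩
    have h1 : (g.comp φ.toRingHom) c₂ = g (φ c₂) := rfl
    have h2 : (g.comp φ.toRingHom) c₁ = g (φ c₁) := rfl
    rw [h1, h2, div_eq_iff h0] at hab
    rw [map_sub, map_mul, hab, mul_comm, sub_self]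

/-- Two points with the same restriction to the divided powers agree. -/
theorem point_ext (hγ : PolLaw.IsGammaD γ)
    (hφ : PolLaw.postcomp ((SymTen.TS A B d).val.comp φ).toLinearMap γ.law = (SymTen.tpowLaw A B d).law)
    {K : Type u} [Field K] (g₁ g₂ : SymTen.TS A B d →+* K) (h : g₁.comp φ.toRingHom = g₂.comp φ.toRingHom) : g₁ = g₂ := by
  have hpow := (K756.NormLaw.pow_statements hγ hφ).2
  have h' : ∀ c, g₁ (φ c) = g₂ (φ c) := fun c => RingHom.congr_fun h c
  have hker : ∀ y, g₁ y = 0 → g₂ y = 0 := by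
    intro y hy
    obtain ⟨c, hc⟩ := hpow y
    have hc' : φ c = y ^ d.factorial := hc
    have h1 : g₂ y ^ d.factorial = 0 := by
      rw [← map_pow, ← hc', ← h', hc', map_pow, hy, zero_pow (Nat.factorial_ne_zero d)]
    exact pow_eq_zero_iff (Nat.factorial_ne_zero d) |>.1 h1
  refine RingHom.ext fun y => ?_
  obtain ⟨c₁, c₂, h0, h1⟩ := exists_frac hφ g₁ y
  have h2 := hker _ h1
  rw [map_sub, map_mul, sub_eq_zero] at h1 h2
  rw [← h', ← h'] at h2
  exact mul_left_cancel₀ h0 (h1.trans h2.symm)

/-- Surjectivity on residue fields. -/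
theorem residueField_surjective
    (hφ : PolLaw.postcomp ((SymTen.TS A B d).val.comp φ).toLinearMap γ.law = (SymTen.tpowLaw A B d).law)
    (p : Ideal C) [p.IsPrime] (P : Ideal (SymTen.TS A B d)) [P.IsPrime] (h : p = P.comap φ.toRingHom) :
    Function.Surjective (Ideal.ResidueField.map p P φ.toRingHom h) := by
  intro x
  obtain ⟨y, s, hs, hx⟩ := IsFractionRing.div_surjective (A := (SymTen.TS A B d) ⧸ P) x
  obtain ⟨y, rfl⟩ := Ideal.Quotient.mk_surjective y
  obtain ⟨s, rfl⟩ := Ideal.Quotient.mk_surjective s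
  let f := Ideal.ResidueField.map p P φ.toRingHom h
  have hmem : ∀ z, algebraMap (SymTen.TS A B d) P.ResidueField z ∈ f.fieldRange := by
    intro z
    refine mem_subfield hφ (algebraMap _ P.ResidueField) f.fieldRange (fun c => ?_) z
    refine ⟨algebraMap C p.ResidueField c, ?_⟩
    exact Ideal.ResidueField.map_algebraMap p P φ.toRingHom h c
  have h1 : x ∈ f.fieldRange := by
    rw [← hx]
    exact div_mem (hmem y) (hmem s)
  exact h1

end Main

end K758.ResField
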