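import Groth.Agent.ZeroCyc.K758.LawMk
import Groth.Agent.EGA2.K33.Charpoly
import Mathlib.RingTheory.MvPolynomial.Localization
import Mathlib.Algebra.MvPolynomial.Equiv
import Mathlib.RingTheory.IntegralClosure.IntegrallyClosed

/-! The determinant law of a finite module over an integrally closed domain. -/

set_option autoImplicit false
set_option linter.unusedSectionVars false
universe u

open scoped TensorProduct
open K754.PolLift K758.LawMk

namespace K758.NormalDet

/-- Polynomial rings in finitely many variables over a normal domain are normal. -/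
theorem isIntegrallyClosed_mvPolynomial (R : Type u) [CommRing R] [IsDomain R] [IsIntegrallyClosed R]
    (n : ℕ) : IsIntegrallyClosed (MvPolynomial (Fin n) R) := by
  induction n with
  | zero => exact IsIntegrallyClosed.of_equiv (MvPolynomial.isEmptyAlgEquiv R (Fin 0)).symm.toRingEquiv
  | succ n ih =>
    exact IsIntegrallyClosed.of_equiv (MvPolynomial.finSuccEquiv R n).symm.toRingEquiv

variable {A B M : Type u} [CommRing A] [IsDomain A]
    [CommRing B] [Algebra A B] [AddCommGroup M] [Module A M] [Module B M] [IsScalarTower A B M] [Module.Finite A M]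

variable (A) in
/-- The embedding of polynomial rings. -/
noncomputable def j (n : ℕ) : MvPolynomial (Fin n) A →ₐ[A] MvPolynomial (Fin n) (FractionRing A) :=
  MvPolynomial.mapAlgHom (Algebra.ofId A (FractionRing A))

theorem j_injective (n : ℕ) : Function.Injective (j A n) :=
  MvPolynomial.map_injective _ (IsFractionRing.injective A (FractionRing A))

theorem injective_aux (n : ℕ) : Function.Injective (algebraMap A (FractionRing (MvPolynomial (Fin n) A))) := by
  rw [IsScalarTower.algebraMap_eq A (MvPolynomial (Fin n) A) (FractionRing (MvPolynomial (Fin n) A)), RingHom.coe_comp]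
  exact (IsFractionRing.injective (MvPolynomial (Fin n) A) (FractionRing (MvPolynomial (Fin n) A))).comp
    (MvPolynomial.C_injective (Fin n) A)

variable (A) in
/-- The polynomial ring over the fraction field maps to the fraction field of the polynomial ring. -/
noncomputable def th (n : ℕ) : MvPolynomial (Fin n) (FractionRing A) →ₐ[A] FractionRing (MvPolynomial (Fin n) A) :=
  { MvPolynomial.eval₂Hom (IsFractionRing.lift (injective_aux (A := A) n))
      (fun i => algebraMap (MvPolynomial (Fin n) A) (FractionRing (MvPolynomial (Fin n) A)) (MvPolynomial.X i)) with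
    commutes' := fun a => by
      show MvPolynomial.eval₂Hom _ _ (MvPolynomial.C (algebraMap A (FractionRing A) a)) = _
      rw [MvPolynomial.eval₂Hom_C, IsFractionRing.lift_algebraMap] }

theorem th_comp_j (n : ℕ) : (th A n).comp (j A n) =
    IsScalarTower.toAlgHom A (MvPolynomial (Fin n) A) (FractionRing (MvPolynomial (Fin n) A)) := by
  refine MvPolynomial.algHom_ext fun i => ?_
  show MvPolynomial.eval₂Hom _ _ (MvPolynomial.map _ (MvPolynomial.X i)) = _
  rw [MvPolynomial.map_X, MvPolynomial.eval₂Hom_X']
  rfl

theorem th_injective (n : ℕ) : Function.Injective (th A n) := by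
  rw [injective_iff_map_eq_zero]
  intro q hq
  let _ : Algebra (MvPolynomial (Fin n) A) (MvPolynomial (Fin n) (FractionRing A)) := MvPolynomial.algebraMvPolynomial
  obtain ⟨⟨p, s⟩, hs⟩ := IsLocalization.surj ((nonZeroDivisors A).map (MvPolynomial.C (σ := Fin n))) q
  have hs' : q * j A n s = j A n p := hs
  have h1 : IsUnit (j A n s) := IsLocalization.map_units (MvPolynomial (Fin n) (FractionRing A)) s
  have h2 : algebraMap (MvPolynomial (Fin n) A) (FractionRing (MvPolynomial (Fin n) A)) p = 0 := by
    have := congrArg (th A n) hs'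
    rw [map_mul, hq, zero_mul] at this
    have h3 := DFunLike.congr_fun (th_comp_j (A := A) n) p
    exact h3.symm.trans this.symm
  have h3 : p = 0 := (IsFractionRing.injective (MvPolynomial (Fin n) A) (FractionRing (MvPolynomial (Fin n) A)))
    (by rw [h2, map_zero])
  rw [h3, map_zero] at hs'
  exact (h1.mul_left_eq_zero).1 hs'

instance (n : ℕ) : Module.Free (MvPolynomial (Fin n) (FractionRing A)) (MvPolynomial (Fin n) (FractionRing A) ⊗[A] M) :=
  Module.Free.of_equiv (TensorProduct.AlgebraTensorModule.cancelBaseChange A (FractionRing A)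
    (MvPolynomial (Fin n) (FractionRing A)) (MvPolynomial (Fin n) (FractionRing A)) M)

theorem finrank_eq (n : ℕ) : Module.finrank (MvPolynomial (Fin n) (FractionRing A))
    (MvPolynomial (Fin n) (FractionRing A) ⊗[A] M) = Module.finrank (FractionRing A) (FractionRing A ⊗[A] M) := by
  rw [← (TensorProduct.AlgebraTensorModule.cancelBaseChange A (FractionRing A)
    (MvPolynomial (Fin n) (FractionRing A)) (MvPolynomial (Fin n) (FractionRing A)) M).finrank_eq,
    Module.finrank_baseChange]

theorem detAct_th (n : ℕ) (x : MvPolynomial (Fin n) A ⊗[A] B) :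
    PolLaw.detAct M (FractionRing (MvPolynomial (Fin n) A)) (Algebra.TensorProduct.map
      (IsScalarTower.toAlgHom A (MvPolynomial (Fin n) A) (FractionRing (MvPolynomial (Fin n) A))) (AlgHom.id A B) x) =
      th A n (PolLaw.detAct M (MvPolynomial (Fin n) (FractionRing A))
        (Algebra.TensorProduct.map (j A n) (AlgHom.id A B) x)) := by
  rw [← detAct_map_of_free, ← th_comp_j]
  congr 1
  have h : Algebra.TensorProduct.map ((th A n).comp (j A n)) (AlgHom.id A B) =
      (Algebra.TensorProduct.map (th A n) (AlgHom.id A B)).comp (Algebra.TensorProduct.map (j A n) (AlgHom.id A B)) := by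
    ext <;> simp
  rw [h]
  rfl

variable [IsIntegrallyClosed A]

variable (M) in
theorem exists_value (n : ℕ) (x : MvPolynomial (Fin n) A ⊗[A] B) :
    ∃ y : MvPolynomial (Fin n) A, j A n y = PolLaw.detAct M (MvPolynomial (Fin n) (FractionRing A))
        (Algebra.TensorProduct.map (j A n) (AlgHom.id A B) x) := by
  have := isIntegrallyClosed_mvPolynomial A n
  have h1 : IsIntegral (MvPolynomial (Fin n) A) (PolLaw.detAct M (FractionRing (MvPolynomial (Fin n) A))
      (Algebra.TensorProduct.map (IsScalarTower.toAlgHom A (MvPolynomial (Fin n) A)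
        (FractionRing (MvPolynomial (Fin n) A))) (AlgHom.id A B) x)) := by
    rw [detAct_eq_det_baseChange, LinearMap.det_eq_sign_charpoly_coeff]
    exact (isIntegral_one.neg.pow _).mul (K33.Charpoly.isIntegral_coeff_charpoly_baseChange _ 0)
  obtain ⟨y, hy⟩ := IsIntegrallyClosed.algebraMap_eq_of_integral h1
  refine ⟨y, th_injective n ?_⟩
  rw [← detAct_th, ← hy]
  exact DFunLike.congr_fun (th_comp_j (A := A) n) y

variable (M) in
/-- The value of the law over a polynomial ring. -/
noncomputable def val (n : ℕ) (x : MvPolynomial (Fin n) A ⊗[A] B) : MvPolynomial (Fin n) A := (exists_value M n x).choose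

theorem j_val (n : ℕ) (x : MvPolynomial (Fin n) A ⊗[A] B) :
    j A n (val M n x) = PolLaw.detAct M (MvPolynomial (Fin n) (FractionRing A))
        (Algebra.TensorProduct.map (j A n) (AlgHom.id A B) x) := (exists_value M n x).choose_spec

theorem val_nat (n m : ℕ) (φ : MvPolynomial (Fin n) A →ₐ[A] MvPolynomial (Fin m) A) (x : MvPolynomial (Fin n) A ⊗[A] B) :
    φ (val M n x) = val M m (Algebra.TensorProduct.map φ (AlgHom.id A B) x) := by
  let φK : MvPolynomial (Fin n) (FractionRing A) →ₐ[A] MvPolynomial (Fin m) (FractionRing A) :=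
    (MvPolynomial.aeval (R := FractionRing A) (fun i => j A m (φ (MvPolynomial.X i)))).restrictScalars A
  have hφ : φK.comp (j A n) = (j A m).comp φ := by
    refine MvPolynomial.algHom_ext fun i => ?_
    show MvPolynomial.aeval _ (MvPolynomial.map _ (MvPolynomial.X i)) = _
    rw [MvPolynomial.map_X, MvPolynomial.aeval_X]
    rfl
  refine j_injective m ?_
  have h1 : j A m (φ (val M n x)) = φK (j A n (val M n x)) := (DFunLike.congr_fun hφ _).symm
  rw [h1, j_val, j_val, ← detAct_map_of_free]
  congr 1
  have h : ∀ x, Algebra.TensorProduct.map φK (AlgHom.id A B) (Algebra.TensorProduct.map (j A n) (AlgHom.id A B) x) =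
      Algebra.TensorProduct.map (j A m) (AlgHom.id A B) (Algebra.TensorProduct.map φ (AlgHom.id A B) x) := by
    intro x
    induction x using TensorProduct.induction_on with
    | zero => simp
    | tmul p b =>
      simp only [Algebra.TensorProduct.map_tmul, AlgHom.id_apply]
      rw [show φK (j A n p) = j A m (φ p) from DFunLike.congr_fun hφ p]
    | add a b ha hb => simp only [map_add, ha, hb]
  exact h x

theorem val_one (n : ℕ) : val M n (1 : MvPolynomial (Fin n) A ⊗[A] B) = 1 := by
  refine j_injective n ?_
  rw [j_val, map_one, PolLaw.detAct_one, map_one]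

theorem val_mul (n : ℕ) (x y : MvPolynomial (Fin n) A ⊗[A] B) : val M n (x * y) = val M n x * val M n y := by
  refine j_injective n ?_
  rw [j_val, map_mul, PolLaw.detAct_mul, map_mul, j_val, j_val]

theorem val_smul (n : ℕ) (s : MvPolynomial (Fin n) A) (x : MvPolynomial (Fin n) A ⊗[A] B) :
    val M n (s • x) = s ^ Module.finrank (FractionRing A) (FractionRing A ⊗[A] M) * val M n x := by
  refine j_injective n ?_
  have h1 : Algebra.TensorProduct.map (j A n) (AlgHom.id A B) (s • x) =
      j A n s • Algebra.TensorProduct.map (j A n) (AlgHom.id A B) x := by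
    induction x using TensorProduct.induction_on with
    | zero => simp
    | tmul p b => simp [TensorProduct.smul_tmul', Algebra.TensorProduct.map_tmul]
    | add a b ha hb => simp only [smul_add, map_add, ha, hb]
  rw [j_val, h1, PolLaw.detAct, map_smul, LinearMap.det_smul, finrank_eq, map_mul, map_pow, j_val, PolLaw.detAct]

variable (A B M) in
theorem isFam_val : IsFam (A := A) (M := B) (N := A) (fun n x => val M n x ⊗ₜ[A] (1 : A)) := fun n m φ => funext fun x => by
  rw [Function.comp_apply, Function.comp_apply, LinearMap.rTensor_tmul, AlgHom.toLinearMap_apply, val_nat,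
    rTensor_eq_map]

variable (M) in
/-- The determinant law. -/
noncomputable def law : PolLaw.MulLaw A B A (Module.finrank (FractionRing A) (FractionRing A ⊗[A] M)) where
  law := toLaw (M := B) (N := A) (fun n x => val M n x ⊗ₜ[A] (1 : A)) (isFam_val A B M)
  homog := isHomog_of_mvPolynomial fun n s x => by
    rw [toLaw_mvPolynomial, val_smul, TensorProduct.smul_tmul', smul_eq_mul]
  mult := isMult_of_mvPolynomial fun n => ⟨by
    rw [toLaw_mvPolynomial, val_one]
    rfl, fun x y => by
    rw [toLaw_mvPolynomial, val_mul, Algebra.TensorProduct.tmul_mul_tmul, one_mul]⟩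

theorem law_toFun' (n : ℕ) (x : MvPolynomial (Fin n) A ⊗[A] B) :
    (law (B := B) M).law.toFun' (MvPolynomial (Fin n) A) x = val M n x ⊗ₜ[A] (1 : A) :=
  congrFun (toLaw_mvPolynomial (isFam_val A B M) n) x

theorem algebraMap_val (n : ℕ) (x : MvPolynomial (Fin n) A ⊗[A] B) :
    algebraMap (MvPolynomial (Fin n) A) (FractionRing (MvPolynomial (Fin n) A)) (val M n x) =
      PolLaw.detAct M (FractionRing (MvPolynomial (Fin n) A)) (Algebra.TensorProduct.map
      (IsScalarTower.toAlgHom A (MvPolynomial (Fin n) A) (FractionRing (MvPolynomial (Fin n) A))) (AlgHom.id A B) x) := by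
  rw [detAct_th, ← j_val]
  exact (DFunLike.congr_fun (th_comp_j (A := A) n) _).symm

end K758.NormalDet
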