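import Groth.Agent.ZeroCyc.K758.LawMk
import Mathlib.LinearAlgebra.Matrix.SchurComplement
import Mathlib.RingTheory.Spectrum.Prime.FreeLocus

/-! The determinant law of a finitely generated projective module. -/

set_option autoImplicit false
universe u

open scoped TensorProduct
open K754.PolLift K758.LawMk

namespace K758.ProjDet

/-- Sylvester's determinant identity for linear maps between finite free modules. -/
theorem det_one_add_comp_comm {S : Type*} [CommRing S] {P Q : Type*} [AddCommGroup P] [Module S P] [AddCommGroup Q]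
    [Module S Q] [Module.Free S P] [Module.Finite S P] [Module.Free S Q] [Module.Finite S Q]
    (U : P →ₗ[S] Q) (V : Q →ₗ[S] P) :
    LinearMap.det ((1 : Module.End S Q) + U ∘ₗ V) = LinearMap.det ((1 : Module.End S P) + V ∘ₗ U) := by
  classical
  let b := Module.Free.chooseBasis S P
  let c := Module.Free.chooseBasis S Q
  rw [← LinearMap.det_toMatrix c, ← LinearMap.det_toMatrix b, map_add, map_add,
    LinearMap.toMatrix_comp c b c, LinearMap.toMatrix_comp b c b, LinearMap.toMatrix_one, LinearMap.toMatrix_one,
    Matrix.det_one_add_mul_comm]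

section Split

variable {A : Type u} [CommRing A] {B : Type u} [CommRing B] [Algebra A B]
  {M : Type u} [AddCommGroup M] [Module A M] [Module B M] [IsScalarTower A B M]
  {F : Type u} [AddCommGroup F] [Module A F] (i : M →ₗ[A] F) (π : F →ₗ[A] M)

/-- The action of `x` on the direct factor, extended by the identity on the complement. -/
noncomputable def eEnd (S : Type u) [CommRing S] [Algebra A S] (x : S ⊗[A] B) : Module.End S (S ⊗[A] F) :=
  i.baseChange S ∘ₗ PolLaw.actEnd M S x ∘ₗ π.baseChange S + (1 - i.baseChange S ∘ₗ π.baseChange S)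

variable {i π}

theorem baseChange_comp_id (h : π ∘ₗ i = LinearMap.id) (S : Type u) [CommRing S] [Algebra A S] (z : S ⊗[A] M) :
    π.baseChange S (i.baseChange S z) = z := by
  rw [← LinearMap.comp_apply, ← LinearMap.baseChange_comp, h, LinearMap.baseChange_id, LinearMap.id_apply]

theorem eEnd_one (S : Type u) [CommRing S] [Algebra A S] : eEnd i π S (1 : S ⊗[A] B) = 1 := by
  refine LinearMap.ext fun z => ?_
  rw [eEnd, map_one]
  simp

theorem eEnd_mul (h : π ∘ₗ i = LinearMap.id) (S : Type u) [CommRing S] [Algebra A S] (x y : S ⊗[A] B) :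
    eEnd i π S (x * y) = eEnd i π S x * eEnd i π S y := by
  refine LinearMap.ext fun z => ?_
  simp only [eEnd, map_mul, LinearMap.add_apply, LinearMap.sub_apply, LinearMap.comp_apply, Module.End.mul_apply,
    Module.End.one_apply, map_add, map_sub, baseChange_comp_id h]
  abel

theorem det_eEnd (h : π ∘ₗ i = LinearMap.id) (S : Type u) [CommRing S] [Algebra A S] [Module.Free A F] [Module.Finite A F]
    [Module.Free S (S ⊗[A] M)] [Module.Finite S (S ⊗[A] M)] (x : S ⊗[A] B) :
    LinearMap.det (eEnd i π S x) = PolLaw.detAct M S x := by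
  have h1 : eEnd i π S x = 1 + i.baseChange S ∘ₗ ((PolLaw.actEnd M S x - 1) ∘ₗ π.baseChange S) := by
    refine LinearMap.ext fun z => ?_
    simp only [eEnd, LinearMap.add_apply, LinearMap.sub_apply, LinearMap.comp_apply,
      Module.End.one_apply, map_sub]
    abel
  have h2 : PolLaw.actEnd M S x = 1 + ((PolLaw.actEnd M S x - 1) ∘ₗ π.baseChange S) ∘ₗ i.baseChange S := by
    refine LinearMap.ext fun z => ?_
    simp only [LinearMap.add_apply, LinearMap.sub_apply, LinearMap.comp_apply,
      Module.End.one_apply, baseChange_comp_id h]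
    abel
  rw [h1, det_one_add_comp_comm, ← h2, PolLaw.detAct]

theorem eEnd_nat {S S' : Type u} [CommRing S] [Algebra A S] [CommRing S'] [Algebra A S'] (ψ : S →ₐ[A] S')
    (x : S ⊗[A] B) (z : S ⊗[A] F) :
    ψ.toLinearMap.rTensor F (eEnd i π S x z) =
      eEnd i π S' (Algebra.TensorProduct.map ψ (AlgHom.id A B) x) (ψ.toLinearMap.rTensor F z) := by
  have hbc : ∀ {P Q : Type u} [AddCommGroup P] [Module A P] [AddCommGroup Q] [Module A Q] (f : P →ₗ[A] Q) (z : S ⊗[A] P),
      ψ.toLinearMap.rTensor Q (f.baseChange S z) = f.baseChange S' (ψ.toLinearMap.rTensor P z) := by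
    intro P Q _ _ _ _ f z
    induction z using TensorProduct.induction_on with
    | zero => simp
    | tmul s m => simp [LinearMap.baseChange_tmul, LinearMap.rTensor_tmul]
    | add a b ha hb => simp only [map_add, ha, hb]
  simp only [eEnd, LinearMap.add_apply, LinearMap.sub_apply, LinearMap.comp_apply,
    Module.End.one_apply, map_add, map_sub, hbc, PolLaw.rTensor_actEnd]

theorem det_eEnd_nat [Module.Free A F] [Module.Finite A F]
    {S S' : Type u} [CommRing S] [Algebra A S] [CommRing S'] [Algebra A S'] (ψ : S →ₐ[A] S')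
    (x : S ⊗[A] B) :
    LinearMap.det (eEnd i π S' (Algebra.TensorProduct.map ψ (AlgHom.id A B) x)) = ψ (LinearMap.det (eEnd i π S x)) := by
  classical
  let bM := Module.Free.chooseBasis A F
  rw [← LinearMap.det_toMatrix (Algebra.TensorProduct.basis S' bM),
    ← LinearMap.det_toMatrix (Algebra.TensorProduct.basis S bM), AlgHom.map_det]
  congr 1
  ext i j
  simp only [AlgHom.mapMatrix_apply, Matrix.map_apply, LinearMap.toMatrix_apply,
    Algebra.TensorProduct.basis_apply]
  rw [← PolLaw.basis_repr_rTensor F ψ, eEnd_nat ψ, LinearMap.rTensor_tmul, AlgHom.toLinearMap_apply,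
    map_one]

variable (i π) in
/-- The determinant law of a direct factor of a finite free module. -/
noncomputable def splitLaw [Module.Free A F] [Module.Finite A F] : B →ₚₗ[A] A :=
  ofRing (fun S _ _ x => LinearMap.det (eEnd i π S x) ⊗ₜ[A] (1 : A)) (by
    intro S S' _ _ _ _ φ x
    rw [LinearMap.rTensor_tmul, AlgHom.toLinearMap_apply, ← det_eEnd_nat, rTensor_eq_map])

theorem splitLaw_toFun' [Module.Free A F] [Module.Finite A F] (S : Type u) [CommRing S] [Algebra A S] (x : S ⊗[A] B) :
    (splitLaw (B := B) i π).toFun' S x = LinearMap.det (eEnd i π S x) ⊗ₜ[A] (1 : A) := ofRing_toFun' _ S x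

theorem isMult_splitLaw [Module.Free A F] [Module.Finite A F] (h : π ∘ₗ i = LinearMap.id) :
    PolLaw.IsMult (splitLaw (B := B) i π) := by
  refine isMult_of_mvPolynomial fun n => ⟨?_, fun x y => ?_⟩
  · rw [splitLaw_toFun', eEnd_one, map_one]
    rfl
  · rw [splitLaw_toFun', splitLaw_toFun', splitLaw_toFun', eEnd_mul h, map_mul, Algebra.TensorProduct.tmul_mul_tmul,
      one_mul]

end Split

section Proj

variable {A : Type u} [CommRing A] {B : Type u} [CommRing B] [Algebra A B]
  {M : Type u} [AddCommGroup M] [Module A M] [Module B M] [IsScalarTower A B M] [Module.Finite A M] [Module.Projective A M]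

/-- Elements of `S ⊗ A` agreeing in all localizations are equal. -/
theorem eq_of_localizations {S : Type u} [CommRing S] [Algebra A S] {y z : S ⊗[A] A}
    (h : ∀ (p : Ideal S) [p.IsPrime],
      (IsScalarTower.toAlgHom A S (Localization.AtPrime p)).toLinearMap.rTensor A y =
        (IsScalarTower.toAlgHom A S (Localization.AtPrime p)).toLinearMap.rTensor A z) : y = z := by
  refine (TensorProduct.rid A S).injective ?_
  rw [← sub_eq_zero]
  refine eq_zero_of_localization _ fun m hm => ?_
  have hm' : m.IsPrime := hm.isPrime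
  have hr : ∀ w : S ⊗[A] A, TensorProduct.rid A (Localization.AtPrime m)
      ((IsScalarTower.toAlgHom A S (Localization.AtPrime m)).toLinearMap.rTensor A w) =
        algebraMap S (Localization.AtPrime m) (TensorProduct.rid A S w) := by
    intro w
    induction w using TensorProduct.induction_on with
    | zero => simp
    | tmul s a =>
      rw [LinearMap.rTensor_tmul, TensorProduct.rid_tmul, TensorProduct.rid_tmul, AlgHom.toLinearMap_apply,
        IsScalarTower.coe_toAlgHom', Algebra.smul_def, Algebra.smul_def, map_mul, IsScalarTower.algebraMap_apply A S]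
    | add a b ha hb => simp only [map_add, ha, hb]
  rw [map_sub, ← hr, ← hr, h m, sub_self]

/-- Two laws with the same members over local rings are equal. -/
theorem law_ext_local {P : Type u} [AddCommGroup P] [Module A P] {N N' : P →ₚₗ[A] A}
    (h : ∀ (S : Type u) [CommRing S] [IsLocalRing S] [Algebra A S] (x : S ⊗[A] P), N.toFun' S x = N'.toFun' S x) :
    N = N' := by
  refine ext_mvPolynomial fun n => funext fun x => eq_of_localizations fun p _ => ?_
  rw [N.isCompat_apply', N'.isCompat_apply', h]

theorem free_of_local (S : Type u) [CommRing S] [IsLocalRing S] [Algebra A S] : Module.Free S (S ⊗[A] M) :=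
  Module.free_of_flat_of_isLocalRing

variable (A B M) in
theorem exists_law : ∃ N : B →ₚₗ[A] A, PolLaw.IsMult N ∧ ∀ (S : Type u) [CommRing S] [Algebra A S]
    [Module.Free S (S ⊗[A] M)] (x : S ⊗[A] B),
      N.toFun' S x = PolLaw.detAct M S x ⊗ₜ[A] (1 : A) := by
  obtain ⟨n, π, hπ⟩ := Module.Finite.exists_fin' A M
  obtain ⟨i, hi⟩ := Module.projective_lifting_property π LinearMap.id hπ
  let e : (ULift.{u} (Fin n) → A) ≃ₗ[A] (Fin n → A) := LinearEquiv.funCongrLeft A A Equiv.ulift.symm
  let π' : (ULift.{u} (Fin n) → A) →ₗ[A] M := π ∘ₗ e.toLinearMap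
  let i' : M →ₗ[A] (ULift.{u} (Fin n) → A) := e.symm.toLinearMap ∘ₗ i
  have h : π' ∘ₗ i' = LinearMap.id := by
    refine LinearMap.ext fun m => ?_
    show π (e (e.symm (i m))) = m
    rw [LinearEquiv.apply_symm_apply]
    exact LinearMap.congr_fun hi m
  refine ⟨splitLaw i' π', isMult_splitLaw h, fun S _ _ _ x => ?_⟩
  rw [splitLaw_toFun', det_eEnd h]

/-- Homogeneity for constant rank. -/
theorem isHomog_of_rank {d : ℕ} (hd : ∀ p : PrimeSpectrum A, Module.rankAtStalk M p = d) {N : B →ₚₗ[A] A}
    (hN : ∀ (S : Type u) [CommRing S] [IsLocalRing S] [Algebra A S] (x : S ⊗[A] B),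
      N.toFun' S x = PolLaw.detAct M S x ⊗ₜ[A] (1 : A)) : PolLaw.IsHomog N d := by
  have hsm : ∀ {P : Type u} [AddCommGroup P] [Module A P] {S S' : Type u} [CommSemiring S] [Algebra A S] [CommSemiring S']
      [Algebra A S'] (ψ : S →ₐ[A] S') (s : S) (z : S ⊗[A] P),
      ψ.toLinearMap.rTensor P (s • z) = ψ s • ψ.toLinearMap.rTensor P z := by
    intro P _ _ S S' _ _ _ _ ψ s z
    induction z using TensorProduct.induction_on with
    | zero => simp
    | tmul a b => simp [TensorProduct.smul_tmul', LinearMap.rTensor_tmul]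
    | add a b ha hb => simp only [smul_add, map_add, ha, hb]
  refine isHomog_of_mvPolynomial fun n s x => eq_of_localizations fun p _ => ?_
  rw [N.isCompat_apply', hsm, hsm, N.isCompat_apply', map_pow]
  generalize (IsScalarTower.toAlgHom A (MvPolynomial (Fin n) A) (Localization.AtPrime p)) s = t
  generalize (IsScalarTower.toAlgHom A (MvPolynomial (Fin n) A) (Localization.AtPrime p)).toLinearMap.rTensor B x = y
  have hfree := free_of_local (A := A) (M := M) (Localization.AtPrime p)
  rw [hN, hN]
  have h1 : PolLaw.detAct M (Localization.AtPrime p) (t • y) =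
      t ^ Module.finrank (Localization.AtPrime p) (Localization.AtPrime p ⊗[A] M) * PolLaw.detAct M (Localization.AtPrime p) y := by
    rw [PolLaw.detAct, PolLaw.detAct, map_smul, LinearMap.det_smul]
  have h2 : Module.finrank (Localization.AtPrime p) (Localization.AtPrime p ⊗[A] M) = d := by
    have q : PrimeSpectrum (Localization.AtPrime p) := IsLocalRing.closedPoint _
    have h3 := Module.rankAtStalk_baseChange (R := A) (M := M) (S := Localization.AtPrime p) q
    rw [hd, Module.rankAtStalk_eq_finrank_of_free] at h3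
    exact h3
  rw [h1, h2, TensorProduct.smul_tmul', smul_eq_mul]

end Proj

end K758.ProjDet
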