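import Groth.Prelude.Def_PolLaw
import Mathlib.LinearAlgebra.TensorProduct.Basis
import Mathlib.RingTheory.MvPolynomial.Basic

/-! Coefficients of polynomial laws. -/

set_option autoImplicit false
universe u

open scoped TensorProduct

namespace K758.Coef

section Extract

variable {A : Type u} [CommRing A] {N : Type u} [AddCommGroup N] [Module A N] {κ : Type}

open Classical in
/-- Coefficients of an element of `A[X_κ] ⊗ N`. -/
noncomputable def cf : MvPolynomial κ A ⊗[A] N ≃ₗ[A] (κ →₀ ℕ) →₀ N :=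
  TensorProduct.equivFinsuppOfBasisLeft (MvPolynomial.basisMonomials κ A)

theorem cf_tmul (p : MvPolynomial κ A) (n : N) (α : κ →₀ ℕ) :
    cf (p ⊗ₜ[A] n) α = MvPolynomial.coeff α p • n := by
  classical
  rw [cf, TensorProduct.equivFinsuppOfBasisLeft_apply_tmul_apply]
  rfl

theorem cf_symm (b : (κ →₀ ℕ) →₀ N) :
    cf.symm b = b.sum fun α n => MvPolynomial.monomial α (1 : A) ⊗ₜ[A] n := by
  classical
  rw [cf, TensorProduct.equivFinsuppOfBasisLeft_symm_apply]
  simp only [MvPolynomial.coe_basisMonomials]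

theorem eq_sum_cf (z : MvPolynomial κ A ⊗[A] N) :
    z = (cf z).sum fun α n => MvPolynomial.monomial α (1 : A) ⊗ₜ[A] n := by
  rw [← cf_symm, LinearEquiv.symm_apply_apply]

theorem cf_ext {z w : MvPolynomial κ A ⊗[A] N} (h : ∀ α, cf z α = cf w α) : z = w :=
  cf.injective (Finsupp.ext h)

theorem cf_lTensor {N' : Type u} [AddCommGroup N'] [Module A N'] (g : N →ₗ[A] N')
    (z : MvPolynomial κ A ⊗[A] N) (α : κ →₀ ℕ) :
    cf (g.lTensor (MvPolynomial κ A) z) α = g (cf z α) := by
  induction z using TensorProduct.induction_on with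
  | zero => simp
  | tmul p n => rw [LinearMap.lTensor_tmul, cf_tmul, cf_tmul, map_smul]
  | add x y hx hy => simp only [map_add, Finsupp.add_apply, hx, hy]

theorem cf_sum_monomial (s : Finset (κ →₀ ℕ)) (y : (κ →₀ ℕ) → N) (β : κ →₀ ℕ) [DecidablePred (· ∈ s)] :
    cf (∑ α ∈ s, MvPolynomial.monomial α (1 : A) ⊗ₜ[A] y α) β = if β ∈ s then y β else 0 := by
  classical
  rw [map_sum, Finsupp.finsetSum_apply]
  simp only [cf_tmul, MvPolynomial.coeff_monomial]
  by_cases hβ : β ∈ s
  · rw [if_pos hβ, Finset.sum_eq_single β]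
    · simp
    · intro b _ hb; simp [hb]
    · intro h; exact absurd hβ h
  · rw [if_neg hβ]
    refine Finset.sum_eq_zero fun α hα => ?_
    have : α ≠ β := fun h => hβ (h ▸ hα)
    simp [this]

end Extract

section Coeff

variable {A : Type u} [CommRing A] {M N : Type u} [AddCommGroup M] [Module A M] [AddCommGroup N] [Module A N]
  {κ : Type} [Fintype κ]

/-- The generic combination of a finite family. -/
noncomputable def gen (b : κ → M) : MvPolynomial κ A ⊗[A] M := ∑ j, MvPolynomial.X j ⊗ₜ[A] b j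

/-- The coefficients of a polynomial law on a finite family. -/
noncomputable def coeff (F : M →ₚₗ[A] N) (b : κ → M) : (κ →₀ ℕ) →₀ N := cf (F.toFun' (MvPolynomial κ A) (gen b))

theorem toFun'_gen (F : M →ₚₗ[A] N) (b : κ → M) :
    F.toFun' (MvPolynomial κ A) (gen b) = (coeff F b).sum fun α n => MvPolynomial.monomial α (1 : A) ⊗ₜ[A] n :=
  eq_sum_cf _

/-- The value of a law on `∑ s j ⊗ b j` in terms of its coefficients. -/
theorem toFun'_sum (F : M →ₚₗ[A] N) (b : κ → M) (S : Type u) [CommSemiring S] [Algebra A S] (s : κ → S) :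
    F.toFun' S (∑ j, s j ⊗ₜ[A] b j) = (coeff F b).sum fun α n => (∏ j, s j ^ α j) ⊗ₜ[A] n := by
  have h1 : (MvPolynomial.aeval s : MvPolynomial κ A →ₐ[A] S).toLinearMap.rTensor M (gen b) = ∑ j, s j ⊗ₜ[A] b j := by
    rw [gen, map_sum]
    refine Finset.sum_congr rfl fun j _ => ?_
    simp
  rw [← h1, ← F.isCompat_apply', toFun'_gen, Finsupp.sum, map_sum, Finsupp.sum]
  refine Finset.sum_congr rfl fun α _ => ?_
  rw [LinearMap.rTensor_tmul, AlgHom.toLinearMap_apply, MvPolynomial.aeval_monomial, map_one, one_mul,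
    Finsupp.prod_fintype _ _ (fun i => pow_zero _)]

/-- The same with the sum over any finite set containing the support. -/
theorem toFun'_sum_of_subset (F : M →ₚₗ[A] N) (b : κ → M) (T : Finset (κ →₀ ℕ)) (hT : (coeff F b).support ⊆ T)
    (S : Type u) [CommSemiring S] [Algebra A S] (s : κ → S) :
    F.toFun' S (∑ j, s j ⊗ₜ[A] b j) = ∑ α ∈ T, (∏ j, s j ^ α j) ⊗ₜ[A] coeff F b α := by
  rw [toFun'_sum, Finsupp.sum_of_support_subset _ hT _ (fun α _ => by simp)]

/-- Coefficients of a homogeneous law vanish outside its degree. -/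
theorem coeff_eq_zero {F : M →ₚₗ[A] N} {d : ℕ} (hF : PolLaw.IsHomog F d) (b : κ → M) (α : κ →₀ ℕ)
    (hα : α.degree ≠ d) : coeff F b α = 0 := by
  classical
  -- test algebra `A[T, X_κ]`
  let S := MvPolynomial (Option κ) A
  let s : κ → S := fun j => MvPolynomial.X (some j)
  let T : S := MvPolynomial.X none
  have h := hF S T (∑ j, s j ⊗ₜ[A] b j)
  have h1 : T • (∑ j, s j ⊗ₜ[A] b j) = ∑ j, (T * s j) ⊗ₜ[A] b j := by
    rw [Finset.smul_sum]
    refine Finset.sum_congr rfl fun j _ => ?_
    rw [TensorProduct.smul_tmul', smul_eq_mul]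
  rw [h1, toFun'_sum, toFun'_sum] at h
  -- compare the coefficients at `T ^ |α| X ^ α`
  let e : (κ →₀ ℕ) → ℕ → (Option κ →₀ ℕ) := fun β m => β.mapDomain some + Finsupp.single none m
  have he : ∀ β m, (T ^ m * ∏ j, s j ^ β j : S) = MvPolynomial.monomial (e β m) 1 := by
    intro β m
    have h2 : (∏ j, s j ^ β j : S) = MvPolynomial.monomial (β.mapDomain some) 1 := by
      rw [MvPolynomial.monomial_eq, map_one, one_mul,
        Finsupp.prod_mapDomain_index (fun _ => pow_zero _) (fun _ _ _ => pow_add _ _ _),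
        Finsupp.prod_fintype _ _ (fun i => pow_zero _)]
    rw [h2, MvPolynomial.X_pow_eq_monomial, MvPolynomial.monomial_mul, mul_one, add_comm]
  have hinj : ∀ β β' m m', e β m = e β' m' → β = β' ∧ m = m' := by
    intro β β' m m' h
    constructor
    · ext j
      have := DFunLike.congr_fun h (some j)
      simpa [e, Finsupp.mapDomain_apply (Option.some_injective κ)] using this
    · have := DFunLike.congr_fun h none
      have h0 : ∀ γ : κ →₀ ℕ, (γ.mapDomain some : Option κ →₀ ℕ) none = 0 := fun γ =>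
        Finsupp.mapDomain_of_notMem_range _ _ (by simp)
      simpa [e, h0] using this
  have hL : ((coeff F b).sum fun α n => (∏ j, (T * s j) ^ α j : S) ⊗ₜ[A] n) =
      (coeff F b).sum fun α n => (MvPolynomial.monomial (e α α.degree) (1 : A) : S) ⊗ₜ[A] n := by
    refine Finsupp.sum_congr fun β _ => ?_
    congr 1
    rw [← he]
    simp only [mul_pow, Finset.prod_mul_distrib, Finset.prod_pow_eq_pow_sum]
    congr 2
    rw [Finsupp.degree_eq_sum]
  have hR : (T ^ d • (coeff F b).sum fun α n => (∏ j, s j ^ α j : S) ⊗ₜ[A] n) =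
      (coeff F b).sum fun α n => (MvPolynomial.monomial (e α d) (1 : A) : S) ⊗ₜ[A] n := by
    rw [Finsupp.smul_sum]
    refine Finsupp.sum_congr fun β _ => ?_
    rw [TensorProduct.smul_tmul', smul_eq_mul, he]
  rw [hL, hR] at h
  have h3 := DFunLike.congr_fun (congrArg cf h) (e α α.degree)
  rw [Finsupp.sum, Finsupp.sum, map_sum, map_sum, Finsupp.finsetSum_apply, Finsupp.finsetSum_apply] at h3
  simp only [cf_tmul, MvPolynomial.coeff_monomial] at h3
  by_contra hne
  have hmem : α ∈ (coeff F b).support := Finsupp.mem_support_iff.2 hne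
  rw [Finset.sum_eq_single α, Finset.sum_eq_zero] at h3
  · simp at h3; exact hne h3
  · intro β _
    rw [if_neg, zero_smul]
    intro hh
    have := hinj _ _ _ _ hh
    exact hα this.2.symm
  · intro β _ hβ
    rw [if_neg, zero_smul]
    intro hh
    exact hβ (hinj _ _ _ _ hh).1
  · intro hh
    exact absurd hmem hh

theorem support_coeff_subset [DecidableEq κ] {F : M →ₚₗ[A] N} {d : ℕ} (hF : PolLaw.IsHomog F d) (b : κ → M) :
    (coeff F b).support ⊆ Finset.finsuppAntidiag Finset.univ d := by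
  intro α hα
  rw [Finset.mem_finsuppAntidiag]
  refine ⟨?_, Finset.subset_univ _⟩
  by_contra h
  exact Finsupp.mem_support_iff.1 hα (coeff_eq_zero hF b α (by rwa [Finsupp.degree_eq_sum]))

/-- The value of a homogeneous law on `∑ s j ⊗ b j`. -/
theorem toFun'_sum_homog [DecidableEq κ] {F : M →ₚₗ[A] N} {d : ℕ} (hF : PolLaw.IsHomog F d) (b : κ → M)
    (S : Type u) [CommSemiring S] [Algebra A S] (s : κ → S) :
    F.toFun' S (∑ j, s j ⊗ₜ[A] b j) =
      ∑ α ∈ Finset.finsuppAntidiag Finset.univ d, (∏ j, s j ^ α j) ⊗ₜ[A] coeff F b α :=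
  toFun'_sum_of_subset F b _ (support_coeff_subset hF b) S s

/-- Coefficients are characterised by the value on the generic element. -/
theorem coeff_eq_of_toFun'_gen (F : M →ₚₗ[A] N) (b : κ → M) (T : Finset (κ →₀ ℕ)) (y : (κ →₀ ℕ) → N)
    (h : F.toFun' (MvPolynomial κ A) (gen b) = ∑ α ∈ T, MvPolynomial.monomial α (1 : A) ⊗ₜ[A] y α)
    (β : κ →₀ ℕ) [DecidablePred (· ∈ T)] : coeff F b β = if β ∈ T then y β else 0 := by
  rw [coeff, h, cf_sum_monomial]

theorem coeff_postcomp {P : Type u} [AddCommGroup P] [Module A P] (g : N →ₗ[A] P) (F : M →ₚₗ[A] N) (b : κ → M)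
    (α : κ →₀ ℕ) : coeff (PolLaw.postcomp g F) b α = g (coeff F b α) := by
  rw [coeff, coeff]
  exact cf_lTensor g _ α

theorem coeff_precomp {P : Type u} [AddCommGroup P] [Module A P] (F : M →ₚₗ[A] N) (g : P →ₗ[A] M) (b : κ → P) :
    coeff (PolLaw.precomp F g) b = coeff F (fun j => g (b j)) := by
  rw [coeff, coeff]
  congr 1
  show F.toFun' _ (g.lTensor _ (gen b)) = _
  congr 1
  simp [gen]

/-- Every element of `S ⊗ M` is a finite combination `∑ s j ⊗ b j`. -/
theorem exists_eq_sum (S : Type u) [CommSemiring S] [Algebra A S] (x : S ⊗[A] M) :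
    ∃ (n : ℕ) (s : Fin n → S) (b : Fin n → M), x = ∑ j, s j ⊗ₜ[A] b j := by
  induction x using TensorProduct.induction_on with
  | zero => exact ⟨0, Fin.elim0, Fin.elim0, by simp⟩
  | tmul s m => exact ⟨1, fun _ => s, fun _ => m, by simp⟩
  | add x y hx hy =>
    obtain ⟨n, s, b, rfl⟩ := hx
    obtain ⟨m, s', b', rfl⟩ := hy
    refine ⟨n + m, Fin.append s s', Fin.append b b', ?_⟩
    rw [Fin.sum_univ_add]
    simp

/-- Two laws with the same coefficients are equal. -/
theorem ext_of_coeff {F G : M →ₚₗ[A] N} (h : ∀ (n : ℕ) (b : Fin n → M) (α : Fin n →₀ ℕ), coeff F b α = coeff G b α) :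
    F = G := by
  refine PolynomialLaw.ext ?_
  funext S _ _ x
  obtain ⟨n, s, b, rfl⟩ := exists_eq_sum S x
  have : coeff F b = coeff G b := Finsupp.ext (h n b)
  rw [toFun'_sum, toFun'_sum, this]

/-- Coefficients on a reindexed family. -/
theorem coeff_reindex {κ' : Type} [Fintype κ'] (F : M →ₚₗ[A] N) (e : κ ≃ κ') (b : κ' → M) (α : κ →₀ ℕ) :
    coeff F (fun j => b (e j)) α = coeff F b (α.equivMapDomain e) := by
  classical
  have h1 : (∑ j, (MvPolynomial.X j : MvPolynomial κ A) ⊗ₜ[A] b (e j)) =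
      ∑ j', (MvPolynomial.X (e.symm j') : MvPolynomial κ A) ⊗ₜ[A] b j' := by
    rw [← Equiv.sum_comp e]
    simp
  have h2 : coeff F (fun j => b (e j)) α = cf (F.toFun' (MvPolynomial κ A)
      (∑ j', (MvPolynomial.X (e.symm j') : MvPolynomial κ A) ⊗ₜ[A] b j')) α := by
    rw [coeff, gen, h1]
  rw [h2, toFun'_sum, Finsupp.sum, map_sum, Finsupp.finsetSum_apply]
  have h3 : ∀ β : κ' →₀ ℕ, (∏ j', (MvPolynomial.X (e.symm j') : MvPolynomial κ A) ^ β j') =
      MvPolynomial.monomial (β.equivMapDomain e.symm) 1 := by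
    intro β
    rw [MvPolynomial.monomial_eq, map_one, one_mul, Finsupp.prod_fintype _ _ (fun i => pow_zero _),
      ← Equiv.prod_comp e]
    simp [Finsupp.equivMapDomain_apply]
  simp only [h3, cf_tmul, MvPolynomial.coeff_monomial]
  by_cases hα : α.equivMapDomain e ∈ (coeff F b).support
  · rw [Finset.sum_eq_single (α.equivMapDomain e)]
    · rw [if_pos, one_smul]
      rw [← Finsupp.equivMapDomain_trans]
      simp
    · intro β _ hβ
      rw [if_neg, zero_smul]
      rintro rfl
      apply hβ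
      rw [← Finsupp.equivMapDomain_trans]
      simp
    · intro h; exact absurd hα h
  · rw [Finsupp.notMem_support_iff.1 hα]
    refine Finset.sum_eq_zero fun β hβ => ?_
    rw [if_neg, zero_smul]
    rintro rfl
    apply hα
    rw [← Finsupp.equivMapDomain_trans]
    simpa using hβ

end Coeff

end K758.Coef
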