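import Groth.Agent.ZeroCyc.K758.Coef

/-! Coefficients of multiplicative laws: products of coefficients, spanning, linear maps compatible with laws. -/

set_option autoImplicit false
universe u

open scoped TensorProduct

namespace K758.Coef

section Mul

variable {A : Type u} [CommRing A] {C : Type u} [CommRing C] [Algebra A C] {κ κ' : Type}

/-- The exponent on a disjoint union. -/
noncomputable def se (α : κ →₀ ℕ) (β : κ' →₀ ℕ) : (κ ⊕ κ') →₀ ℕ := α.mapDomain Sum.inl + β.mapDomain Sum.inr

theorem se_inj {α α' : κ →₀ ℕ} {β β' : κ' →₀ ℕ} (h : se α β = se α' β') : α = α' ∧ β = β' := by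
  constructor
  · ext j
    have := DFunLike.congr_fun h (Sum.inl j)
    simpa [se, Finsupp.mapDomain_apply Sum.inl_injective,
      Finsupp.mapDomain_of_notMem_range] using this
  · ext j
    have := DFunLike.congr_fun h (Sum.inr j)
    simpa [se, Finsupp.mapDomain_apply Sum.inr_injective,
      Finsupp.mapDomain_of_notMem_range] using this

theorem rename_mul_rename_monomial (α : κ →₀ ℕ) (β : κ' →₀ ℕ) :
    MvPolynomial.rename (Sum.inl : κ → κ ⊕ κ') (MvPolynomial.monomial α (1 : A)) *
      MvPolynomial.rename (Sum.inr : κ' → κ ⊕ κ') (MvPolynomial.monomial β (1 : A)) =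
      MvPolynomial.monomial (se α β) 1 := by
  rw [MvPolynomial.rename_monomial, MvPolynomial.rename_monomial, MvPolynomial.monomial_mul, mul_one]
  rfl

variable (A C κ κ') in
/-- `A[X_κ] ⊗ C → A[X_κ, X_κ'] ⊗ C`. -/
noncomputable def inlMap : MvPolynomial κ A ⊗[A] C →ₐ[A] MvPolynomial (κ ⊕ κ') A ⊗[A] C :=
  Algebra.TensorProduct.map (MvPolynomial.rename Sum.inl) (AlgHom.id A C)

variable (A C κ κ') in
/-- `A[X_κ'] ⊗ C → A[X_κ, X_κ'] ⊗ C`. -/
noncomputable def inrMap : MvPolynomial κ' A ⊗[A] C →ₐ[A] MvPolynomial (κ ⊕ κ') A ⊗[A] C :=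
  Algebra.TensorProduct.map (MvPolynomial.rename Sum.inr) (AlgHom.id A C)

/-- Coefficients of a product in disjoint variables. -/
theorem cf_mul (z : MvPolynomial κ A ⊗[A] C) (w : MvPolynomial κ' A ⊗[A] C) (α : κ →₀ ℕ) (β : κ' →₀ ℕ) :
    cf (inlMap A C κ κ' z * inrMap A C κ κ' w) (se α β) = cf z α * cf w β := by
  classical
  have hz := eq_sum_cf z
  have hw := eq_sum_cf w
  have h1 : inlMap A C κ κ' z * inrMap A C κ κ' w =
      ∑ α' ∈ (cf z).support, ∑ β' ∈ (cf w).support,
        MvPolynomial.monomial (se α' β') (1 : A) ⊗ₜ[A] (cf z α' * cf w β') := by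
    conv_lhs => rw [hz, hw]
    rw [Finsupp.sum, Finsupp.sum, map_sum, map_sum, Finset.sum_mul_sum]
    refine Finset.sum_congr rfl fun α' _ => Finset.sum_congr rfl fun β' _ => ?_
    rw [inlMap, inrMap, Algebra.TensorProduct.map_tmul, Algebra.TensorProduct.map_tmul,
      Algebra.TensorProduct.tmul_mul_tmul, rename_mul_rename_monomial]
    rfl
  rw [h1]
  simp only [map_sum, Finsupp.finsetSum_apply, cf_tmul, MvPolynomial.coeff_monomial]
  have h2 : ∀ α' β', (if se α' β' = se α β then (1 : A) else 0) • (cf z α' * cf w β') =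
      if α' = α then (if β' = β then cf z α' * cf w β' else 0) else 0 := by
    intro α' β'
    by_cases h : se α' β' = se α β
    · obtain ⟨rfl, rfl⟩ := se_inj h
      simp
    · rw [if_neg h, zero_smul]
      by_cases ha : α' = α
      · rw [if_pos ha, if_neg]
        rintro rfl; exact h (by rw [ha])
      · rw [if_neg ha]
  simp only [h2]
  rw [Finset.sum_comm]
  simp only [Finset.sum_ite_eq', Finsupp.mem_support_iff]
  by_cases ha : cf z α = 0
  · simp [ha]
  by_cases hb : cf w β = 0
  · simp [hb]
  simp [ha, Finsupp.mem_support_iff, hb]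

end Mul

section Law

variable {A : Type u} [CommRing A] {B C : Type u} [CommRing B] [Algebra A B] [CommRing C] [Algebra A C]
  {κ κ' : Type} [Fintype κ] [Fintype κ'] {d : ℕ}

/-- The product of two generic elements, in disjoint variables. -/
noncomputable def gen2 (b : κ → B) (b' : κ' → B) : MvPolynomial (κ ⊕ κ') A ⊗[A] B :=
  (∑ j, (MvPolynomial.X (Sum.inl j)) ⊗ₜ[A] b j) * (∑ j, (MvPolynomial.X (Sum.inr j)) ⊗ₜ[A] b' j)

theorem toFun'_inl (F : B →ₚₗ[A] C) (b : κ → B) :
    F.toFun' (MvPolynomial (κ ⊕ κ') A) (∑ j, (MvPolynomial.X (Sum.inl j)) ⊗ₜ[A] b j) =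
      inlMap A C κ κ' (F.toFun' (MvPolynomial κ A) (gen b)) := by
  have h1 : (MvPolynomial.rename (Sum.inl : κ → κ ⊕ κ') : MvPolynomial κ A →ₐ[A] _).toLinearMap.rTensor B (gen b) =
      ∑ j, (MvPolynomial.X (Sum.inl j)) ⊗ₜ[A] b j := by
    rw [gen, map_sum]; simp
  rw [← h1, ← F.isCompat_apply']
  generalize F.toFun' (MvPolynomial κ A) (gen b) = z
  induction z using TensorProduct.induction_on with
  | zero => simp
  | tmul p c => rfl
  | add x y hx hy => simp only [map_add, hx, hy]

theorem toFun'_inr (F : B →ₚₗ[A] C) (b : κ' → B) :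
    F.toFun' (MvPolynomial (κ ⊕ κ') A) (∑ j, (MvPolynomial.X (Sum.inr j)) ⊗ₜ[A] b j) =
      inrMap A C κ κ' (F.toFun' (MvPolynomial κ' A) (gen b)) := by
  have h1 : (MvPolynomial.rename (Sum.inr : κ' → κ ⊕ κ') : MvPolynomial κ' A →ₐ[A] _).toLinearMap.rTensor B (gen b) =
      ∑ j, (MvPolynomial.X (Sum.inr j)) ⊗ₜ[A] b j := by
    rw [gen, map_sum]; simp
  rw [← h1, ← F.isCompat_apply']
  generalize F.toFun' (MvPolynomial κ' A) (gen b) = z
  induction z using TensorProduct.induction_on with
  | zero => simp
  | tmul p c => rfl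
  | add x y hx hy => simp only [map_add, hx, hy]

/-- Products of coefficients of a multiplicative law are coefficients of its value at `gen2`. -/
theorem cf_gen2 {F : B →ₚₗ[A] C} (hF : PolLaw.IsMult F) (b : κ → B) (b' : κ' → B) (α : κ →₀ ℕ) (β : κ' →₀ ℕ) :
    cf (F.toFun' (MvPolynomial (κ ⊕ κ') A) (gen2 b b')) (se α β) = coeff F b α * coeff F b' β := by
  rw [gen2, (hF _).2, toFun'_inl, toFun'_inr, cf_mul, coeff, coeff]

/-- The span of all coefficients of a law. -/
noncomputable def coeffSpan {M N : Type u} [AddCommGroup M] [Module A M] [AddCommGroup N] [Module A N]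
    (F : M →ₚₗ[A] N) : Submodule A N :=
  Submodule.span A {y | ∃ (n : ℕ) (b : Fin n → M) (α : Fin n →₀ ℕ), y = coeff F b α}

theorem coeff_mem_coeffSpan {M N : Type u} [AddCommGroup M] [Module A M] [AddCommGroup N] [Module A N]
    (F : M →ₚₗ[A] N) (b : κ → M) (α : κ →₀ ℕ) : coeff F b α ∈ coeffSpan F := by
  classical
  have h := coeff_reindex F (Fintype.equivFin κ).symm b (α.equivMapDomain (Fintype.equivFin κ))
  rw [← Finsupp.equivMapDomain_trans] at h
  simp only [Equiv.self_trans_symm, Finsupp.equivMapDomain_refl] at h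
  rw [← h]
  exact Submodule.subset_span ⟨_, _, _, rfl⟩

/-- Coefficients of values of a law lie in the span of the coefficients. -/
theorem cf_toFun'_mem {M N : Type u} [AddCommGroup M] [Module A M] [AddCommGroup N] [Module A N]
    (F : M →ₚₗ[A] N) (x : MvPolynomial κ' A ⊗[A] M) (β : κ' →₀ ℕ) :
    cf (F.toFun' (MvPolynomial κ' A) x) β ∈ coeffSpan F := by
  obtain ⟨n, s, b, rfl⟩ := exists_eq_sum _ x
  rw [toFun'_sum, Finsupp.sum, map_sum, Finsupp.finsetSum_apply]
  refine Submodule.sum_mem _ fun α _ => ?_
  rw [cf_tmul]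
  exact Submodule.smul_mem _ _ (coeff_mem_coeffSpan F b α)

/-- The coefficients of a multiplicative law span a subalgebra. -/
noncomputable def coeffSubalgebra (F : B →ₚₗ[A] C) (hF : PolLaw.IsMult F) : Subalgebra A C :=
  (coeffSpan F).toSubalgebra
    (by
      -- the value at `1`
      have h1 := (hF (MvPolynomial (Fin 0) A)).1
      have h2 := cf_toFun'_mem F (κ' := Fin 0) 1 0
      rw [h1, Algebra.TensorProduct.one_def, cf_tmul] at h2
      simpa using h2)
    (by
      intro x y hx hy
      induction hx using Submodule.span_induction with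
      | zero => rw [zero_mul]; exact Submodule.zero_mem _
      | add a b _ _ ha hb => rw [add_mul]; exact Submodule.add_mem _ ha hb
      | smul r a _ ha => rw [smul_mul_assoc]; exact Submodule.smul_mem _ _ ha
      | mem x hx =>
        obtain ⟨n, b, α, rfl⟩ := hx
        induction hy using Submodule.span_induction with
        | zero => rw [mul_zero]; exact Submodule.zero_mem _
        | add a b _ _ ha hb => rw [mul_add]; exact Submodule.add_mem _ ha hb
        | smul r a _ ha => rw [mul_smul_comm]; exact Submodule.smul_mem _ _ ha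
        | mem y hy =>
          obtain ⟨m, b', β, rfl⟩ := hy
          rw [← cf_gen2 hF]
          exact cf_toFun'_mem F _ _)

theorem mem_coeffSubalgebra (F : B →ₚₗ[A] C) (hF : PolLaw.IsMult F) (x : C) :
    x ∈ coeffSubalgebra F hF ↔ x ∈ coeffSpan F := Iff.rfl

/-- A linear map out of the target of a multiplicative law whose coefficients span, whose composition with the law is
multiplicative, is an algebra map. -/
noncomputable def algHomOfComp {C' : Type u} [CommRing C'] [Algebra A C'] {F : B →ₚₗ[A] C} (hF : PolLaw.IsMult F)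
    (hspan : coeffSpan F = ⊤) {G : B →ₚₗ[A] C'} (hG : PolLaw.IsMult G) (f : C →ₗ[A] C')
    (hf : PolLaw.postcomp f F = G) : C →ₐ[A] C' :=
  AlgHom.ofLinearMap f
    (by
      have h1 := (hF (MvPolynomial (Fin 0) A)).1
      have h2 := (hG (MvPolynomial (Fin 0) A)).1
      have h3 : f.lTensor (MvPolynomial (Fin 0) A) (F.toFun' (MvPolynomial (Fin 0) A) 1) =
        G.toFun' (MvPolynomial (Fin 0) A) 1 := by rw [← hf]; rfl
      rw [h1, h2] at h3
      have h4 := DFunLike.congr_fun (congrArg cf h3) 0
      rw [cf_lTensor, Algebra.TensorProduct.one_def, cf_tmul, Algebra.TensorProduct.one_def, cf_tmul] at h4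
      simpa using h4)
    (by
      intro x y
      have hx : x ∈ coeffSpan F := hspan ▸ Submodule.mem_top
      have hy : y ∈ coeffSpan F := hspan ▸ Submodule.mem_top
      induction hx using Submodule.span_induction with
      | zero => simp
      | add a b _ _ ha hb => rw [add_mul, map_add, ha, hb, map_add, add_mul]
      | smul r a _ ha => rw [smul_mul_assoc, map_smul, ha, map_smul, smul_mul_assoc]
      | mem x hx =>
        obtain ⟨n, b, α, rfl⟩ := hx
        induction hy using Submodule.span_induction with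
        | zero => simp
        | add a b _ _ ha hb => rw [mul_add, map_add, ha, hb, map_add, mul_add]
        | smul r a _ ha => rw [mul_smul_comm, map_smul, ha, map_smul, mul_smul_comm]
        | mem y hy =>
          obtain ⟨m, b', β, rfl⟩ := hy
          rw [← cf_gen2 hF, ← cf_lTensor]
          have h3 : f.lTensor (MvPolynomial (Fin n ⊕ Fin m) A) (F.toFun' _ (gen2 b b')) =
            G.toFun' _ (gen2 b b') := by rw [← hf]; rfl
          rw [h3, cf_gen2 hG, ← hf, coeff_postcomp, coeff_postcomp])

theorem algHomOfComp_apply {C' : Type u} [CommRing C'] [Algebra A C'] {F : B →ₚₗ[A] C} (hF : PolLaw.IsMult F)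
    (hspan : coeffSpan F = ⊤) {G : B →ₚₗ[A] C'} (hG : PolLaw.IsMult G) (f : C →ₗ[A] C')
    (hf : PolLaw.postcomp f F = G) (x : C) : algHomOfComp hF hspan hG f hf x = f x := rfl

/-- A law with values in `N` whose coefficients lie in the submodule `N'` and such that `S ⊗ N' → S ⊗ N` is what it is:
the coefficients give a factorisation through `N'` when all tensored inclusions are injective. -/
theorem exists_factor_of_coeffSpan_le {M N : Type u} [AddCommGroup M] [Module A M] [AddCommGroup N] [Module A N]
    (F : M →ₚₗ[A] N) (N' : Submodule A N) (hN' : coeffSpan F ≤ N')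
    (hpure : ∀ (S : Type u) [AddCommGroup S] [Module A S], Function.Injective (N'.subtype.lTensor S)) :
    ∃ G : M →ₚₗ[A] N', PolLaw.postcomp N'.subtype G = F := by
  classical
  have hpure' : ∀ (S : Type u) [CommSemiring S] [Algebra A S], Function.Injective (N'.subtype.lTensor S) := by
    intro S _ _
    letI : AddCommGroup S := Module.addCommMonoidToAddCommGroup A
    exact hpure S
  have hex : ∀ (S : Type u) [CommSemiring S] [Algebra A S] (x : S ⊗[A] M),
      ∃ y : S ⊗[A] N', N'.subtype.lTensor S y = F.toFun' S x := by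
    intro S _ _ x
    obtain ⟨n, s, b, rfl⟩ := exists_eq_sum S x
    refine ⟨∑ α ∈ (coeff F b).support, (∏ j, s j ^ α j) ⊗ₜ[A] ⟨coeff F b α, hN' (coeff_mem_coeffSpan F b α)⟩, ?_⟩
    rw [toFun'_sum, map_sum, Finsupp.sum]
    simp
  choose G hG using hex
  refine ⟨{ toFun' := fun S _ _ x => G S x
            isCompat' := ?_ }, ?_⟩
  · intro S _ _ S' _ _ φ
    funext x
    apply hpure' S'
    simp only [Function.comp_apply]
    rw [hG, ← F.isCompat_apply', ← hG]
    generalize G S x = z
    rw [← LinearMap.comp_apply, ← LinearMap.comp_apply, LinearMap.lTensor_comp_rTensor,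
      LinearMap.rTensor_comp_lTensor]
  · refine PolynomialLaw.ext ?_
    funext S _ _ x
    exact hG S x

end Law

section Gamma

variable {A : Type u} [CommRing A] {B C : Type u} [CommRing B] [Algebra A B] [CommRing C] [Algebra A C] {d : ℕ}

/-- A multiplicative law with values in a subalgebra containing the coefficients. No purity is needed: the coefficients
define the lift, and multiplicativity is checked after... see `factor` below for the universal case. -/
theorem coeffSpan_postcomp_le {M N N' : Type u} [AddCommGroup M] [Module A M] [AddCommGroup N] [Module A N]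
    [AddCommGroup N'] [Module A N'] (F : M →ₚₗ[A] N) (g : N →ₗ[A] N') :
    coeffSpan (PolLaw.postcomp g F) = (coeffSpan F).map g := by
  rw [coeffSpan, coeffSpan, Submodule.map_span]
  congr 1
  ext y
  constructor
  · rintro ⟨n, b, α, rfl⟩
    exact ⟨_, ⟨n, b, α, rfl⟩, (coeff_postcomp g F b α).symm⟩
  · rintro ⟨_, ⟨n, b, α, rfl⟩, rfl⟩
    exact ⟨n, b, α, (coeff_postcomp g F b α).symm⟩

end Gamma

end K758.Coef
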