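import Mathlib.LinearAlgebra.PiTensorProduct.Basic
import Mathlib.Algebra.Colimit.Module
import Mathlib.LinearAlgebra.TensorProduct.DirectLimit

/-! Directed systems of modules with an elementwise description of the colimit; tensor powers commute with them. -/

set_option autoImplicit false
universe u v w

open scoped TensorProduct

namespace K758.DirLim

section Def

variable {A : Type u} [CommRing A] {ι : Type v} [Preorder ι]
  {M : Type w} [AddCommGroup M] [Module A M]
  (Mi : ι → Type w) [∀ i, AddCommGroup (Mi i)] [∀ i, Module A (Mi i)]
  (t : ∀ i j : ι, i ≤ j → (Mi i →ₗ[A] Mi j)) (φ : ∀ i : ι, Mi i →ₗ[A] M)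

/-- `M` with the maps `φ i` is the colimit of the directed system `(Mi, t)`, in an elementwise form. -/
structure IsDirLim : Prop where
  comp : ∀ (i j : ι) (h : i ≤ j) (x : Mi i), φ j (t i j h x) = φ i x
  surj : ∀ m : M, ∃ (i : ι) (x : Mi i), φ i x = m
  zero : ∀ (i : ι) (x : Mi i), φ i x = 0 → ∃ (j : ι) (h : i ≤ j), t i j h x = 0
  id : ∀ (i : ι) (h : i ≤ i) (x : Mi i), t i i h x = x
  trans : ∀ (i j k : ι) (hij : i ≤ j) (hjk : j ≤ k) (x : Mi i), t j k hjk (t i j hij x) = t i k (hij.trans hjk) x

end Def

section Basic

variable {A : Type u} [CommRing A] {ι : Type v} [Preorder ι]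
  {M : Type w} [AddCommGroup M] [Module A M]
  {Mi : ι → Type w} [∀ i, AddCommGroup (Mi i)] [∀ i, Module A (Mi i)]
  {t : ∀ i j : ι, i ≤ j → (Mi i →ₗ[A] Mi j)} {φ : ∀ i : ι, Mi i →ₗ[A] M}

/-- Two elements of `Mi i` with the same image in `M` become equal further on. -/
theorem IsDirLim.eq (H : IsDirLim Mi t φ) {i : ι} {x y : Mi i} (h : φ i x = φ i y) :
    ∃ (j : ι) (hij : i ≤ j), t i j hij x = t i j hij y := by
  obtain ⟨j, hij, hj⟩ := H.zero i (x - y) (by rw [map_sub, h, sub_self])
  exact ⟨j, hij, by rwa [map_sub, sub_eq_zero] at hj⟩

variable [IsDirected ι (fun i j => i ≤ j)]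

/-- Finitely many vanishing conditions can be achieved at a common stage. -/
theorem IsDirLim.zero_finite (H : IsDirLim Mi t φ) {κ : Type*} [Finite κ] {i : ι} (x : κ → Mi i)
    (h : ∀ k, φ i (x k) = 0) : ∃ (j : ι) (hij : i ≤ j), ∀ k, t i j hij (x k) = 0 := by
  classical
  cases nonempty_fintype κ
  have key : ∀ s : Finset κ, ∃ (j : ι) (hij : i ≤ j), ∀ k ∈ s, t i j hij (x k) = 0 := by
    intro s
    induction s using Finset.induction_on with
    | empty => exact ⟨i, le_rfl, by simp⟩
    | insert a s ha ih =>
      obtain ⟨j, hij, hj⟩ := ih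
      obtain ⟨k, hik, hk⟩ := H.zero i (x a) (h a)
      obtain ⟨l, hjl, hkl⟩ := directed_of (fun i j : ι => i ≤ j) j k
      refine ⟨l, hij.trans hjl, fun b hb => ?_⟩
      rcases Finset.mem_insert.1 hb with rfl | hb
      · rw [← H.trans i k l hik hkl, hk, map_zero]
      · rw [← H.trans i j l hij hjl, hj b hb, map_zero]
  obtain ⟨j, hij, hj⟩ := key Finset.univ
  exact ⟨j, hij, fun k => hj k (Finset.mem_univ k)⟩

theorem IsDirLim.eq_finite (H : IsDirLim Mi t φ) {κ : Type*} [Finite κ] {i : ι} (x y : κ → Mi i)
    (h : ∀ k, φ i (x k) = φ i (y k)) : ∃ (j : ι) (hij : i ≤ j), ∀ k, t i j hij (x k) = t i j hij (y k) := by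
  obtain ⟨j, hij, hj⟩ := H.zero_finite (fun k => x k - y k) (fun k => by rw [map_sub, h k, sub_self])
  exact ⟨j, hij, fun k => by simpa [map_sub, sub_eq_zero] using hj k⟩

variable [Nonempty ι]

/-- Finitely many elements of `M` come from a common stage. -/
theorem IsDirLim.surj_finite (H : IsDirLim Mi t φ) {κ : Type*} [Finite κ] (m : κ → M) :
    ∃ (i : ι) (x : κ → Mi i), ∀ k, φ i (x k) = m k := by
  classical
  cases nonempty_fintype κ
  have key : ∀ s : Finset κ, ∃ (i : ι) (x : κ → Mi i), ∀ k ∈ s, φ i (x k) = m k := by
    intro s
    induction s using Finset.induction_on with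
    | empty => exact ⟨Classical.arbitrary ι, fun _ => 0, by simp⟩
    | insert a s ha ih =>
      obtain ⟨i, x, hx⟩ := ih
      obtain ⟨j, y, hy⟩ := H.surj (m a)
      obtain ⟨l, hil, hjl⟩ := directed_of (fun i j : ι => i ≤ j) i j
      refine ⟨l, fun k => if k = a then t j l hjl y else t i l hil (x k), fun b hb => ?_⟩
      rcases Finset.mem_insert.1 hb with rfl | hb
      · simp only [if_true]; rw [H.comp, hy]
      · have hba : b ≠ a := fun h => ha (h ▸ hb)
        simp only [hba, if_false]; rw [H.comp, hx b hb]
  obtain ⟨i, x, hx⟩ := key Finset.univ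
  exact ⟨i, x, fun k => hx k (Finset.mem_univ k)⟩

end Basic

section PiTensor

variable {A : Type u} [CommRing A] {ι : Type v} [Preorder ι] [IsDirected ι (fun i j => i ≤ j)] [Nonempty ι]
  {M : Type w} [AddCommGroup M] [Module A M]
  {Mi : ι → Type w} [∀ i, AddCommGroup (Mi i)] [∀ i, Module A (Mi i)]
  {t : ∀ i j : ι, i ≤ j → (Mi i →ₗ[A] Mi j)} {φ : ∀ i : ι, Mi i →ₗ[A] M}
  (κ : Type) [Finite κ]

/-- Tensor powers over a finite index type commute with directed colimits. -/
theorem IsDirLim.piTensor (H : IsDirLim Mi t φ) :
    IsDirLim (fun i => ⨂[A] _ : κ, Mi i) (fun i j h => PiTensorProduct.map (fun _ : κ => t i j h))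
      (fun i => PiTensorProduct.map (fun _ : κ => φ i)) := by
  classical
  have hcomp : ∀ (i j : ι) (h : i ≤ j) (x : ⨂[A] _ : κ, Mi i),
      PiTensorProduct.map (fun _ : κ => φ j) (PiTensorProduct.map (fun _ : κ => t i j h) x) =
        PiTensorProduct.map (fun _ : κ => φ i) x := by
    intro i j h x
    induction x using PiTensorProduct.induction_on with
    | smul_tprod r f => simp only [map_smul, PiTensorProduct.map_tprod, H.comp]
    | add x y hx hy => simp only [map_add, hx, hy]
  have hid : ∀ (i : ι) (h : i ≤ i) (x : ⨂[A] _ : κ, Mi i), PiTensorProduct.map (fun _ : κ => t i i h) x = x := by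
    intro i h x
    induction x using PiTensorProduct.induction_on with
    | smul_tprod r f => simp only [map_smul, PiTensorProduct.map_tprod, H.id]
    | add x y hx hy => simp only [map_add, hx, hy]
  have htrans : ∀ (i j k : ι) (hij : i ≤ j) (hjk : j ≤ k) (x : ⨂[A] _ : κ, Mi i),
      PiTensorProduct.map (fun _ : κ => t j k hjk) (PiTensorProduct.map (fun _ : κ => t i j hij) x) =
        PiTensorProduct.map (fun _ : κ => t i k (hij.trans hjk)) x := by
    intro i j k hij hjk x
    induction x using PiTensorProduct.induction_on with
    | smul_tprod r f => simp only [map_smul, PiTensorProduct.map_tprod, H.trans]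
    | add x y hx hy => simp only [map_add, hx, hy]
  refine ⟨hcomp, ?_, ?_, hid, htrans⟩
  · intro z
    induction z using PiTensorProduct.induction_on with
    | smul_tprod r f =>
      obtain ⟨i, x, hx⟩ := H.surj_finite f
      exact ⟨i, r • PiTensorProduct.tprod A x, by simp only [map_smul, PiTensorProduct.map_tprod, hx]⟩
    | add x y hx hy =>
      obtain ⟨i, x', hx'⟩ := hx
      obtain ⟨j, y', hy'⟩ := hy
      obtain ⟨l, hil, hjl⟩ := directed_of (fun i j : ι => i ≤ j) i j
      refine ⟨l, PiTensorProduct.map (fun _ : κ => t i l hil) x' + PiTensorProduct.map (fun _ : κ => t j l hjl) y', ?_⟩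
      rw [map_add, hcomp, hcomp, hx', hy']
  · -- vanishing
    let G : ι → Type _ := fun i => ⨂[A] _ : κ, Mi i
    let f : ∀ i j, i ≤ j → G i →ₗ[A] G j := fun i j h => PiTensorProduct.map (fun _ : κ => t i j h)
    have : DirectedSystem G (fun i j h => f i j h) :=
      { map_self := fun i x => hid i le_rfl x
        map_map := fun k j i hij hjk x => htrans _ _ _ hij hjk x }
    let D := Module.DirectLimit G f
    -- representatives
    have hrep : ∀ m : κ → M, ∃ (i : ι) (x : κ → Mi i), ∀ k, φ i (x k) = m k := fun m => H.surj_finite m
    choose I X hX using hrep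
    let Ψ : (κ → M) → D := fun m => Module.DirectLimit.of A ι G f (I m) (PiTensorProduct.tprod A (X m))
    have hΨ : ∀ (i : ι) (x : κ → Mi i), Ψ (fun k => φ i (x k)) =
        Module.DirectLimit.of A ι G f i (PiTensorProduct.tprod A x) := by
      intro i x
      set m : κ → M := fun k => φ i (x k) with hm
      obtain ⟨l, hil, hIl⟩ := directed_of (fun i j : ι => i ≤ j) i (I m)
      obtain ⟨j, hlj, hj⟩ := H.eq_finite (fun k => t i l hil (x k)) (fun k => t (I m) l hIl (X m k)) (by
        intro k
        rw [H.comp, H.comp, hX m k])
      have h1 : Module.DirectLimit.of A ι G f i (PiTensorProduct.tprod A x) =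
          Module.DirectLimit.of A ι G f j (PiTensorProduct.tprod A (fun k => t i j (hil.trans hlj) (x k))) := by
        rw [← Module.DirectLimit.of_f (hij := hil.trans hlj)]
        exact congrArg _ (PiTensorProduct.map_tprod _ _)
      have h2 : Ψ m =
          Module.DirectLimit.of A ι G f j (PiTensorProduct.tprod A (fun k => t (I m) j (hIl.trans hlj) (X m k))) := by
        show Module.DirectLimit.of A ι G f (I m) (PiTensorProduct.tprod A (X m)) = _
        rw [← Module.DirectLimit.of_f (hij := hIl.trans hlj)]
        exact congrArg _ (PiTensorProduct.map_tprod _ _)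
      rw [h1, h2]
      congr 2
      funext k
      rw [← H.trans i l j hil hlj, ← H.trans (I m) l j hIl hlj, hj k]
    let Ψm : MultilinearMap A (fun _ : κ => M) D :=
      { toFun := Ψ
        map_update_add' := by
          intro inst m k a b
          have hinst : inst = Classical.decEq κ := Subsingleton.elim _ _
          subst hinst
          -- representatives of m, a, b together
          obtain ⟨i, x, hx⟩ := H.surj_finite (κ := Option (Option κ)) (fun o => match o with
            | none => a
            | some none => b
            | some (some k) => m k)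
          have ha : φ i (x none) = a := hx none
          have hb : φ i (x (some none)) = b := hx (some none)
          have hm : ∀ k, φ i (x (some (some k))) = m k := fun k => hx (some (some k))
          have hup : ∀ (c : M) (y : Mi i), φ i y = c →
              Function.update m k c = fun k' => φ i (Function.update (fun k => x (some (some k))) k y k') := by
            intro c y hy
            funext k'
            by_cases h : k' = k
            · subst h; simp [hy]
            · simp [Function.update_of_ne h, hm]
          rw [hup (a + b) (x none + x (some none)) (by rw [map_add, ha, hb]), hup a _ ha, hup b _ hb, hΨ, hΨ, hΨ,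
            MultilinearMap.map_update_add, map_add]
        map_update_smul' := by
          intro inst m k c a
          have hinst : inst = Classical.decEq κ := Subsingleton.elim _ _
          subst hinst
          obtain ⟨i, x, hx⟩ := H.surj_finite (κ := Option κ) (fun o => match o with
            | none => a
            | some k => m k)
          have ha : φ i (x none) = a := hx none
          have hm : ∀ k, φ i (x (some k)) = m k := fun k => hx (some k)
          have hup : ∀ (c : M) (y : Mi i), φ i y = c →
              Function.update m k c = fun k' => φ i (Function.update (fun k => x (some k)) k y k') := by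
            intro c y hy
            funext k'
            by_cases h : k' = k
            · subst h; simp [hy]
            · simp [Function.update_of_ne h, hm]
          rw [hup (c • a) (c • x none) (by rw [map_smul, ha]), hup a _ ha, hΨ, hΨ,
            MultilinearMap.map_update_smul, map_smul] }
    have hL : ∀ (i : ι) (y : G i), PiTensorProduct.lift Ψm (PiTensorProduct.map (fun _ : κ => φ i) y) =
        Module.DirectLimit.of A ι G f i y := by
      intro i y
      induction y using PiTensorProduct.induction_on with
      | smul_tprod r g =>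
        simp only [map_smul, PiTensorProduct.map_tprod, PiTensorProduct.lift.tprod]
        congr 1
        exact hΨ i g
      | add x y hx hy => simp only [map_add, hx, hy]
    intro i y hy
    have h0 : Module.DirectLimit.of A ι G f i y = 0 := by
      rw [← hL i y]
      have : PiTensorProduct.map (fun _ : κ => φ i) y = 0 := hy
      rw [this, map_zero]
    obtain ⟨j, hij, hj⟩ := Module.DirectLimit.of.zero_exact h0
    exact ⟨j, hij, hj⟩

end PiTensor

end K758.DirLim
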