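import Groth.Agent.ZeroCyc.K758.DirLim

/-! Directed colimits (elementwise form): comparison with `Module.DirectLimit`, universal property, tensor products,
submodules. -/

set_option autoImplicit false
universe u v w w'

open scoped TensorProduct

namespace K758.DirLim

section Lift

variable {A : Type u} [CommRing A] {ι : Type v} [Preorder ι] [IsDirected ι (fun i j => i ≤ j)] [Nonempty ι]
  {M : Type w} [AddCommGroup M] [Module A M]
  {Mi : ι → Type w} [∀ i, AddCommGroup (Mi i)] [∀ i, Module A (Mi i)]
  {t : ∀ i j : ι, i ≤ j → (Mi i →ₗ[A] Mi j)} {φ : ∀ i : ι, Mi i →ₗ[A] M}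

omit [IsDirected ι fun i j => i ≤ j] [Nonempty ι] in
theorem IsDirLim.directedSystem (H : IsDirLim Mi t φ) : DirectedSystem Mi (fun i j h => t i j h) where
  map_self i x := H.id i le_rfl x
  map_map _ _ _ hij hjk x := H.trans _ _ _ hij hjk x

open Classical in
/-- The comparison with Mathlib's direct limit. -/
noncomputable def IsDirLim.equiv (H : IsDirLim Mi t φ) : Module.DirectLimit Mi t ≃ₗ[A] M :=
  LinearEquiv.ofBijective (Module.DirectLimit.lift A ι Mi t φ (fun i j h x => H.comp i j h x)) (by
    have := H.directedSystem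
    refine ⟨?_, fun m => ?_⟩
    · rw [injective_iff_map_eq_zero]
      intro z hz
      obtain ⟨i, x, rfl⟩ := Module.DirectLimit.exists_of z
      rw [Module.DirectLimit.lift_of] at hz
      obtain ⟨j, hij, hj⟩ := H.zero i x hz
      rw [← Module.DirectLimit.of_f (hij := hij), hj, map_zero]
    · obtain ⟨i, x, rfl⟩ := H.surj m
      exact ⟨Module.DirectLimit.of A ι Mi t i x, Module.DirectLimit.lift_of _ _ _⟩)

open Classical in
theorem IsDirLim.equiv_of (H : IsDirLim Mi t φ) (i : ι) (x : Mi i) :
    H.equiv (Module.DirectLimit.of A ι Mi t i x) = φ i x :=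
  Module.DirectLimit.lift_of φ (fun i j h x => H.comp i j h x) x

open Classical in
theorem IsDirLim.equiv_symm (H : IsDirLim Mi t φ) (i : ι) (x : Mi i) :
    H.equiv.symm (φ i x) = Module.DirectLimit.of A ι Mi t i x := by
  rw [LinearEquiv.symm_apply_eq, H.equiv_of]

variable {P : Type w'} [AddCommGroup P] [Module A P]

open Classical in
/-- The universal property of the colimit. -/
noncomputable def IsDirLim.lift (H : IsDirLim Mi t φ) (g : ∀ i, Mi i →ₗ[A] P)
    (hg : ∀ (i j : ι) (h : i ≤ j) (x : Mi i), g j (t i j h x) = g i x) : M →ₗ[A] P :=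
  (Module.DirectLimit.lift A ι Mi t g hg).comp H.equiv.symm.toLinearMap

theorem IsDirLim.lift_apply (H : IsDirLim Mi t φ) (g : ∀ i, Mi i →ₗ[A] P)
    (hg : ∀ (i j : ι) (h : i ≤ j) (x : Mi i), g j (t i j h x) = g i x) (i : ι) (x : Mi i) :
    H.lift g hg (φ i x) = g i x := by
  classical
  simp only [IsDirLim.lift, LinearMap.comp_apply, LinearEquiv.coe_coe]
  rw [H.equiv_symm, Module.DirectLimit.lift_of]

end Lift

section Tensor

variable {A : Type u} [CommRing A] {ι : Type v} [Preorder ι] [IsDirected ι (fun i j => i ≤ j)] [Nonempty ι]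
  {M : Type w} [AddCommGroup M] [Module A M]
  {Mi : ι → Type w} [∀ i, AddCommGroup (Mi i)] [∀ i, Module A (Mi i)]
  {t : ∀ i j : ι, i ≤ j → (Mi i →ₗ[A] Mi j)} {φ : ∀ i : ι, Mi i →ₗ[A] M}
  (N : Type w') [AddCommGroup N] [Module A N]

/-- Tensoring with a fixed module commutes with directed colimits. -/
theorem IsDirLim.lTensor (H : IsDirLim Mi t φ) :
    IsDirLim (fun i => N ⊗[A] Mi i) (fun i j h => (t i j h).lTensor N) (fun i => (φ i).lTensor N) := by
  classical
  have hcomp : ∀ (i j : ι) (h : i ≤ j) (x : N ⊗[A] Mi i),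
      (φ j).lTensor N ((t i j h).lTensor N x) = (φ i).lTensor N x := by
    intro i j h x
    induction x using TensorProduct.induction_on with
    | zero => simp
    | tmul a b => simp [H.comp]
    | add a b ha hb => simp [ha, hb]
  refine ⟨hcomp, ?_, ?_, ?_, ?_⟩
  · intro z
    induction z using TensorProduct.induction_on with
    | zero => exact ⟨Classical.arbitrary ι, 0, by simp⟩
    | tmul a b =>
      obtain ⟨i, x, rfl⟩ := H.surj b
      exact ⟨i, a ⊗ₜ x, by simp⟩
    | add a b ha hb =>
      obtain ⟨i, x, rfl⟩ := ha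
      obtain ⟨j, y, rfl⟩ := hb
      obtain ⟨l, hil, hjl⟩ := directed_of (fun i j : ι => i ≤ j) i j
      exact ⟨l, (t i l hil).lTensor N x + (t j l hjl).lTensor N y, by rw [map_add, hcomp, hcomp]⟩
  · intro i x hx
    have := H.directedSystem
    have h1 : (Module.DirectLimit.of A ι Mi t i).lTensor N x = 0 := by
      have h2 : (H.equiv.symm.toLinearMap.comp (φ i)).lTensor N x = 0 := by
        rw [LinearMap.lTensor_comp, LinearMap.comp_apply, hx, map_zero]
      have h3 : H.equiv.symm.toLinearMap.comp (φ i) = Module.DirectLimit.of A ι Mi t i := by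
        ext y
        simp only [LinearMap.comp_apply, LinearEquiv.coe_coe]
        exact H.equiv_symm i y
      rwa [h3] at h2
    have h4 : Module.DirectLimit.of A ι (fun i => N ⊗[A] Mi i) (fun i j h => (t i j h).lTensor N) i x = 0 := by
      have h5 : ∀ y : N ⊗[A] Mi i, TensorProduct.directLimitRight t N ((Module.DirectLimit.of A ι Mi t i).lTensor N y) =
          Module.DirectLimit.of A ι (fun i => N ⊗[A] Mi i) (fun i j h => (t i j h).lTensor N) i y := by
        intro y
        induction y using TensorProduct.induction_on with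
        | zero => simp
        | tmul a b => simp
        | add a b ha hb => simp only [map_add, ha, hb]
      rw [← h5, h1, map_zero]
    obtain ⟨j, hij, hj⟩ := Module.DirectLimit.of.zero_exact h4
    exact ⟨j, hij, hj⟩
  · intro i h x
    induction x using TensorProduct.induction_on with
    | zero => simp
    | tmul a b => simp [H.id]
    | add a b ha hb => simp only [map_add, ha, hb]
  · intro i j k hij hjk x
    induction x using TensorProduct.induction_on with
    | zero => simp
    | tmul a b => simp [H.trans]
    | add a b ha hb => simp only [map_add, ha, hb]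

end Tensor

end K758.DirLim
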