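import Groth.Agent.ZeroCyc.K754.PolLift
import Groth.Prelude.Def_PolLaw2
import Mathlib.LinearAlgebra.Charpoly.BaseChange

/-! Construction of polynomial laws from natural families over commutative rings. -/

set_option autoImplicit false
universe u

open scoped TensorProduct
open K754.PolLift

namespace K758.LawMk

section Pred

variable {A : Type u} [CommRing A]

/-- Multiplicativity can be checked over the polynomial rings. -/
theorem isMult_of_mvPolynomial {B C : Type u} [CommRing B] [Algebra A B] [CommRing C] [Algebra A C] {F : B →ₚₗ[A] C}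
    (h : ∀ n : ℕ, F.toFun' (MvPolynomial (Fin n) A) 1 = 1 ∧ ∀ x y : MvPolynomial (Fin n) A ⊗[A] B,
      F.toFun' (MvPolynomial (Fin n) A) (x * y) = F.toFun' _ x * F.toFun' _ y) : PolLaw.IsMult F := by
  intro S _ _
  refine ⟨?_, fun x y => ?_⟩
  · have h1 : (1 : S ⊗[A] B) = (Algebra.ofId A S |>.comp (MvPolynomial.aeval (fun i : Fin 0 => i.elim0) :
        MvPolynomial (Fin 0) A →ₐ[A] A)).toLinearMap.rTensor B 1 := by
      rw [rTensor_eq_map, map_one]
    rw [h1, ← F.isCompat_apply', (h 0).1, rTensor_eq_map, map_one]
  · obtain ⟨n, ψ, p, q, rfl, rfl⟩ := exists_lift₂ x y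
    rw [rTensor_eq_map, rTensor_eq_map, ← map_mul, ← rTensor_eq_map, ← rTensor_eq_map, ← rTensor_eq_map,
      ← F.isCompat_apply', ← F.isCompat_apply', ← F.isCompat_apply', (h n).2, rTensor_eq_map, map_mul,
      ← rTensor_eq_map, ← rTensor_eq_map]

/-- Homogeneity can be checked over the polynomial rings. -/
theorem isHomog_of_mvPolynomial {M N : Type u} [AddCommGroup M] [Module A M] [AddCommGroup N] [Module A N]
    {F : M →ₚₗ[A] N} {d : ℕ}
    (h : ∀ (n : ℕ) (s : MvPolynomial (Fin n) A) (x : MvPolynomial (Fin n) A ⊗[A] M),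
      F.toFun' (MvPolynomial (Fin n) A) (s • x) = s ^ d • F.toFun' _ x) : PolLaw.IsHomog F d := by
  have hsm : ∀ {P : Type u} [AddCommGroup P] [Module A P] {S S' : Type u} [CommSemiring S] [Algebra A S] [CommSemiring S']
      [Algebra A S'] (ψ : S →ₐ[A] S') (s : S) (z : S ⊗[A] P),
      ψ.toLinearMap.rTensor P (s • z) = ψ s • ψ.toLinearMap.rTensor P z := by
    intro P _ _ S S' _ _ _ _ ψ s z
    induction z using TensorProduct.induction_on with
    | zero => simp
    | tmul a b => simp [TensorProduct.smul_tmul', LinearMap.rTensor_tmul]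
    | add a b ha hb => simp only [smul_add, map_add, ha, hb]
  intro S _ _ s x
  obtain ⟨n, ψ, p, q, hp, hq⟩ := exists_lift₂ (A := A) (M := M) (N := A) x (s ⊗ₜ[A] (1 : A))
  obtain ⟨t, rfl⟩ : ∃ t, q = t ⊗ₜ[A] (1 : A) :=
    ⟨TensorProduct.rid A _ q, ((TensorProduct.rid A (MvPolynomial (Fin n) A)).symm_apply_apply q).symm⟩
  have hs : ψ t = s := by
    have := congrArg (TensorProduct.rid A S) hq
    simpa [LinearMap.rTensor_tmul] using this
  rw [← hs, ← hp, ← hsm, ← F.isCompat_apply', h, hsm, map_pow, F.isCompat_apply']

end Pred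

section Mk

variable {A : Type u} [CommRing A] {M N : Type u} [AddCommGroup M] [Module A M] [AddCommGroup N] [Module A N]

/-- A family of maps over the commutative ring test algebras, natural in the test algebra. -/
def IsNat (T : ∀ (S : Type u) [CommRing S] [Algebra A S], S ⊗[A] M → S ⊗[A] N) : Prop :=
  ∀ (S S' : Type u) [CommRing S] [Algebra A S] [CommRing S'] [Algebra A S'] (φ : S →ₐ[A] S') (x : S ⊗[A] M),
    φ.toLinearMap.rTensor N (T S x) = T S' (φ.toLinearMap.rTensor M x)

/-- The polynomial law given by a natural family over commutative rings. -/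
noncomputable def ofRing (T : ∀ (S : Type u) [CommRing S] [Algebra A S], S ⊗[A] M → S ⊗[A] N) (hT : IsNat T) :
    M →ₚₗ[A] N :=
  toLaw (fun n => T (MvPolynomial (Fin n) A)) (fun _ _ φ => funext fun x => hT _ _ φ x)

theorem ofRing_toFun' {T : ∀ (S : Type u) [CommRing S] [Algebra A S], S ⊗[A] M → S ⊗[A] N} (hT : IsNat T)
    (S : Type u) [CommRing S] [Algebra A S] (x : S ⊗[A] M) : (ofRing T hT).toFun' S x = T S x := by
  obtain ⟨n, ψ, p, q, hp, hq⟩ := exists_lift₂ (A := A) (M := M) (N := A) x 0
  rw [← hp]
  exact (toLaw_toFun' _ ψ p).trans (hT _ _ ψ p)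

end Mk

section Det

variable {A : Type u} [CommRing A] {B : Type u} [CommRing B] [Algebra A B]
  (M : Type u) [AddCommGroup M] [Module A M] [Module B M] [IsScalarTower A B M]

section Conj

variable {R R' : Type u} [CommRing R] [Algebra A R] [CommRing R'] [Algebra A R'] [Algebra R R'] [IsScalarTower A R R']

/-- The action after base change is conjugate to the base change of the action. -/
theorem actEnd_conj (x : R ⊗[A] B) :
    (TensorProduct.AlgebraTensorModule.cancelBaseChange A R R' R' M).toLinearMap ∘ₗ
      (PolLaw.actEnd M R x).baseChange R' ∘ₗ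
        (TensorProduct.AlgebraTensorModule.cancelBaseChange A R R' R' M).symm.toLinearMap =
      PolLaw.actEnd M R' (Algebra.TensorProduct.map (IsScalarTower.toAlgHom A R R') (AlgHom.id A B) x) := by
  let ψ : R →ₐ[A] R' := IsScalarTower.toAlgHom A R R'
  let e : R' ⊗[R] (R ⊗[A] M) ≃ₗ[R'] R' ⊗[A] M := TensorProduct.AlgebraTensorModule.cancelBaseChange A R R' R' M
  have h2 : ∀ z : R' ⊗[R] (R ⊗[A] M), e ((PolLaw.actEnd M R x).baseChange R' z) =
      PolLaw.actEnd M R' (Algebra.TensorProduct.map ψ (AlgHom.id A B) x) (e z) := by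
    intro z
    induction z using TensorProduct.induction_on with
    | zero => simp
    | add a b ha hb => simp only [map_add, ha, hb]
    | tmul r z =>
      induction z using TensorProduct.induction_on with
      | zero => simp
      | add a b ha hb => simp only [TensorProduct.tmul_add, map_add, ha, hb]
      | tmul t m =>
        have h3 : ∀ w : R ⊗[A] M, e (r ⊗ₜ[R] w) = r • ψ.toLinearMap.rTensor M w := by
          intro w
          induction w using TensorProduct.induction_on with
          | zero => simp
          | add a b ha hb => simp only [TensorProduct.tmul_add, map_add, smul_add, ha, hb]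
          | tmul s m =>
            rw [TensorProduct.AlgebraTensorModule.cancelBaseChange_tmul, LinearMap.rTensor_tmul,
              TensorProduct.smul_tmul', Algebra.smul_def, smul_eq_mul, mul_comm]
            rfl
        rw [LinearMap.baseChange_tmul, h3, h3, map_smul, PolLaw.rTensor_actEnd]
  refine LinearMap.ext fun z => ?_
  rw [LinearMap.comp_apply, LinearMap.comp_apply]
  refine (h2 _).trans ?_
  congr 1
  exact e.apply_symm_apply z

theorem detAct_eq_det_baseChange (x : R ⊗[A] B) :
    PolLaw.detAct M R' (Algebra.TensorProduct.map (IsScalarTower.toAlgHom A R R') (AlgHom.id A B) x) =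
      LinearMap.det ((PolLaw.actEnd M R x).baseChange R') := by
  rw [PolLaw.detAct, ← actEnd_conj, LinearMap.det_conj]

end Conj

/-- Naturality of the determinant of the action along an algebra map, when the module becomes free over the source. -/
theorem detAct_map_of_free {R R' : Type u} [CommRing R] [Algebra A R] [CommRing R'] [Algebra A R'] (ψ : R →ₐ[A] R')
    [Module.Free R (R ⊗[A] M)] [Module.Finite R (R ⊗[A] M)] (x : R ⊗[A] B) :
    PolLaw.detAct M R' (Algebra.TensorProduct.map ψ (AlgHom.id A B) x) = ψ (PolLaw.detAct M R x) := by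
  let _ : Algebra R R' := ψ.toRingHom.toAlgebra
  have : IsScalarTower A R R' := IsScalarTower.of_algebraMap_eq fun a => (ψ.commutes a).symm
  have h := detAct_eq_det_baseChange M (R := R) (R' := R') x
  rw [LinearMap.det_baseChange] at h
  exact h

end Det

end K758.LawMk
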