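import Groth.Agent.ZeroCyc.K758.SymFree
import Mathlib.LinearAlgebra.StdBasis

/-! The multilinear coefficient of a homogeneous law, and the trace on tensor powers. -/

set_option autoImplicit false
universe u

open scoped TensorProduct
open K758.Coef K757.TSFree

namespace K758.SymMod

section Tr

variable {A : Type u} [CommRing A] {M : Type u} [AddCommGroup M] [Module A M] {d : ℕ}

variable (A M d) in
/-- The trace: sum of all permutations. -/
noncomputable def tr : (⨂[A] _ : Fin d, M) →ₗ[A] ⨂[A] _ : Fin d, M :=
  ∑ σ : Equiv.Perm (Fin d), (PiTensorProduct.reindex A (fun _ : Fin d => M) σ).toLinearMap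

theorem tr_apply (z : ⨂[A] _ : Fin d, M) :
    tr A M d z = ∑ σ : Equiv.Perm (Fin d), PiTensorProduct.reindex A (fun _ : Fin d => M) σ z := by
  simp [tr]

theorem tr_mem (z : ⨂[A] _ : Fin d, M) : tr A M d z ∈ Sym A M d := by
  rw [mem_Sym]
  intro τ
  induction z using PiTensorProduct.induction_on with
  | smul_tprod r f =>
    simp only [tr_apply, map_smul, map_sum, PiTensorProduct.reindex_tprod]
    congr 1
    refine Fintype.sum_equiv (Equiv.mulLeft τ) _ _ fun σ => ?_
    congr 1
  | add x y hx hy => simp only [map_add, hx, hy]

theorem tr_of_mem {z : ⨂[A] _ : Fin d, M} (hz : z ∈ Sym A M d) : tr A M d z = d.factorial • z := by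
  rw [tr_apply, Finset.sum_congr rfl fun σ _ => (mem_Sym z).1 hz σ, Finset.sum_const, Finset.card_univ,
    Fintype.card_perm, Fintype.card_fin]

theorem map_tr {N : Type u} [AddCommGroup N] [Module A N] (f : M →ₗ[A] N) (z : ⨂[A] _ : Fin d, M) :
    PiTensorProduct.map (fun _ : Fin d => f) (tr A M d z) = tr A N d (PiTensorProduct.map (fun _ : Fin d => f) z) := by
  rw [tr_apply, tr_apply, map_sum]
  exact Finset.sum_congr rfl fun σ _ => map_reindex f σ z

/-- The multi-index `(1, …, 1)`. -/
noncomputable def ones (d : ℕ) : Fin d →₀ ℕ := mult (fun i : Fin d => i)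

theorem degree_ones (d : ℕ) : (ones d).degree = d := degree_mult _

/-- The orbit sum with multi-index `(1, …, 1)` is the trace. -/
theorem osum_ones (v : Fin d → M) : osum A d v (ones d) = tr A M d (PiTensorProduct.tprod A v) := by
  classical
  rw [osum_eq, tr_apply]
  simp only [PiTensorProduct.reindex_tprod]
  symm
  refine Finset.sum_bij' (i := fun (σ : Equiv.Perm (Fin d)) _ => (fun k => σ.symm k))
    (j := fun (c : Fin d → Fin d) hc => (exists_perm_of_mult_eq (c := c) (c' := fun i => i)
      (Finset.mem_filter.1 hc).2).choose.symm) ?_ ?_ ?_ ?_ ?_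
  · intro σ _
    rw [Finset.mem_filter]
    exact ⟨Finset.mem_univ _, mult_comp_perm (fun i : Fin d => i) σ.symm⟩
  · intro c _
    exact Finset.mem_univ _
  · intro σ _
    have h : ∀ (h : ∃ τ : Equiv.Perm (Fin d), (fun k => σ.symm k) = (fun i => i) ∘ τ), h.choose = σ.symm := by
      intro h
      have := h.choose_spec
      ext k
      exact congrArg Fin.val (congrFun this k).symm
    rw [h]
    rfl
  · intro c hc
    have h : ∀ (h : ∃ τ : Equiv.Perm (Fin d), c = (fun i => i) ∘ τ), (fun k => h.choose k) = c := by
      intro h
      exact h.choose_spec.symm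
    simp only [Equiv.symm_symm]
    exact h _
  · intro σ _
    rfl

end Tr

section Psi

variable {A : Type u} [CommRing A] {M N : Type u} [AddCommGroup M] [Module A M] [AddCommGroup N] [Module A N] {d : ℕ}

theorem isHomog_precomp {P : Type u} [AddCommGroup P] [Module A P] {F : M →ₚₗ[A] N} (hF : PolLaw.IsHomog F d)
    (g : P →ₗ[A] M) : PolLaw.IsHomog (PolLaw.precomp F g) d := by
  intro S _ _ s x
  show F.toFun' S (g.lTensor S (s • x)) = s ^ d • F.toFun' S (g.lTensor S x)
  have h1 : g.lTensor S (s • x) = s • g.lTensor S x := by
    induction x using TensorProduct.induction_on with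
    | zero => simp
    | tmul a b => simp [TensorProduct.smul_tmul']
    | add a b ha hb => simp only [smul_add, map_add, ha, hb]
  rw [h1, hF S s]

/-- The linear map `A ^ κ → M` of a family. -/
noncomputable def lin {κ : Type} [Fintype κ] (b : κ → M) : (κ → A) →ₗ[A] M := Fintype.linearCombination A b

theorem lin_basis {κ : Type} [Fintype κ] (b : κ → M) (k : κ) : lin b (Pi.basisFun A κ k) = b k := by
  classical
  rw [Pi.basisFun_apply, lin, Fintype.linearCombination_apply_single, one_smul]

theorem coeff_ones_lin {F : M →ₚₗ[A] N} (hF : PolLaw.IsHomog F d) {κ : Type} [Fintype κ] (b : κ → M)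
    (v : Fin d → κ → A) :
    coeff F (fun j => lin b (v j)) (ones d) =
      liftT (Pi.basisFun A κ) d (PolLaw.precomp F (lin b)) (tr A (κ → A) d (PiTensorProduct.tprod A v)) := by
  rw [← osum_ones, liftT_osum _ (isHomog_precomp hF _) v _ (degree_ones d), coeff_precomp]

/-- The multilinear coefficient of a homogeneous law, as a multilinear map. -/
noncomputable def psiMulti {F : M →ₚₗ[A] N} (hF : PolLaw.IsHomog F d) : MultilinearMap A (fun _ : Fin d => M) N where
  toFun m := coeff F m (ones d)
  map_update_add' := by
    intro inst m k x y
    obtain rfl : inst = instDecidableEqFin d := Subsingleton.elim _ _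
    let b : Option (Option (Fin d)) → M := fun o => match o with
      | none => x
      | some none => y
      | some (some j) => m j
    let e := Pi.basisFun A (Option (Option (Fin d)))
    let v : Fin d → Option (Option (Fin d)) → A := fun j => e (some (some j))
    have hup : ∀ (c : M) (w : Option (Option (Fin d)) → A), lin b w = c →
        Function.update m k c = fun j => lin b (Function.update v k w j) := by
      intro c w hw
      funext j
      by_cases h : j = k
      · subst h; simp [hw]
      · rw [Function.update_of_ne h, Function.update_of_ne h]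
        exact (lin_basis (A := A) b (some (some j))).symm
    rw [hup (x + y) (e none + e (some none)) (by rw [map_add, lin_basis, lin_basis]),
      hup x (e none) (lin_basis b _), hup y (e (some none)) (lin_basis b _),
      coeff_ones_lin hF, coeff_ones_lin hF, coeff_ones_lin hF, MultilinearMap.map_update_add, map_add, map_add]
  map_update_smul' := by
    intro inst m k a x
    obtain rfl : inst = instDecidableEqFin d := Subsingleton.elim _ _
    let b : Option (Fin d) → M := fun o => match o with
      | none => x
      | some j => m j
    let e := Pi.basisFun A (Option (Fin d))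
    let v : Fin d → Option (Fin d) → A := fun j => e (some j)
    have hup : ∀ (c : M) (w : Option (Fin d) → A), lin b w = c →
        Function.update m k c = fun j => lin b (Function.update v k w j) := by
      intro c w hw
      funext j
      by_cases h : j = k
      · subst h; simp [hw]
      · rw [Function.update_of_ne h, Function.update_of_ne h]
        exact (lin_basis (A := A) b (some j)).symm
    rw [hup (a • x) (a • e none) (by rw [map_smul, lin_basis]), hup x (e none) (lin_basis b _),
      coeff_ones_lin hF, coeff_ones_lin hF, MultilinearMap.map_update_smul, map_smul, map_smul]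

/-- The multilinear coefficient as a linear map on the tensor power. -/
noncomputable def psi {F : M →ₚₗ[A] N} (hF : PolLaw.IsHomog F d) : (⨂[A] _ : Fin d, M) →ₗ[A] N :=
  PiTensorProduct.lift (psiMulti hF)

theorem psi_tprod {F : M →ₚₗ[A] N} (hF : PolLaw.IsHomog F d) (m : Fin d → M) :
    psi hF (PiTensorProduct.tprod A m) = coeff F m (ones d) := by
  rw [psi, PiTensorProduct.lift.tprod]
  rfl

/-- On orbit sums the multilinear coefficient is `d!` times the coefficient. -/
theorem psi_osum {F : M →ₚₗ[A] N} (hF : PolLaw.IsHomog F d) {κ : Type} [Fintype κ] (b : κ → M) (α : κ →₀ ℕ)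
    (hα : α.degree = d) : psi hF (osum A d b α) = d.factorial • coeff F b α := by
  classical
  let e := Pi.basisFun A κ
  have h1 : psi hF (osum A d b α) = liftT e d (PolLaw.precomp F (lin b)) (tr A (κ → A) d (osum A d e α)) := by
    rw [osum_eq, osum_eq, map_sum, map_sum, map_sum]
    refine Finset.sum_congr rfl fun c _ => ?_
    rw [psi_tprod, ← coeff_ones_lin hF b (fun k => e (c k))]
    congr 2
    funext k
    exact (lin_basis (A := A) b _).symm
  rw [h1, tr_of_mem (osum_mem _ _), map_nsmul, liftT_osum _ (isHomog_precomp hF _) _ _ hα, coeff_precomp]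
  congr 2
  congr 1
  funext k
  exact lin_basis (A := A) b k

end Psi

end K758.SymMod
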