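import Groth.Agent.ZeroCyc.K758.SymMod
import Groth.Agent.ZeroCyc.K757.TSBasis

/-! Symmetric tensors of a finite free module: retraction, orbit sums, linear maps attached to homogeneous laws. -/

set_option autoImplicit false
universe u

open scoped TensorProduct
open K758.Coef K757.TSFree

namespace K758.SymMod

section Free

variable {A : Type u} [CommRing A] {M : Type u} [AddCommGroup M] [Module A M]
  {κ : Type} [Fintype κ] (e : Module.Basis κ A M) (d : ℕ)

/-- The basis of the tensor power. -/
noncomputable abbrev bT : Module.Basis (Fin d → κ) A (⨂[A] _ : Fin d, M) :=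
  Basis.piTensorProduct (fun _ : Fin d => e)

omit [Fintype κ] in
theorem bT_apply (c : Fin d → κ) : bT e d c = PiTensorProduct.tprod A (fun k => e (c k)) :=
  Basis.piTensorProduct_apply _ _

omit [Fintype κ] in
theorem repr_reindex (σ : Equiv.Perm (Fin d)) (z : ⨂[A] _ : Fin d, M) (c : Fin d → κ) :
    (bT e d).repr (PiTensorProduct.reindex A (fun _ : Fin d => M) σ z) c = (bT e d).repr z (c ∘ σ) := by
  classical
  have h : (Finsupp.lapply c ∘ₗ (bT e d).repr.toLinearMap ∘ₗ
      (PiTensorProduct.reindex A (fun _ : Fin d => M) σ).toLinearMap) =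
      Finsupp.lapply (c ∘ σ) ∘ₗ (bT e d).repr.toLinearMap := by
    refine (bT e d).ext fun c' => ?_
    simp only [LinearMap.comp_apply, Finsupp.lapply_apply, LinearEquiv.coe_coe]
    rw [bT_apply e d c', PiTensorProduct.reindex_tprod, ← bT_apply e d c']
    have : (PiTensorProduct.tprod A fun i => e (c' (σ.symm i))) = bT e d (c' ∘ σ.symm) := by
      rw [bT_apply]; rfl
    rw [this, Module.Basis.repr_self, Module.Basis.repr_self, Finsupp.single_apply, Finsupp.single_apply]
    congr 1
    rw [eq_iff_iff, Equiv.comp_symm_eq]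
  exact LinearMap.congr_fun h z

omit [Fintype κ] in
theorem repr_Sym {z : ⨂[A] _ : Fin d, M} (hz : z ∈ Sym A M d) {c c' : Fin d → κ} (h : mult c = mult c') :
    (bT e d).repr z c = (bT e d).repr z c' := by
  obtain ⟨σ, rfl⟩ := exists_perm_of_mult_eq h
  rw [← repr_reindex, (mem_Sym z).1 hz σ]

open Classical in
/-- A linear map attached to a function on multi-indices. -/
noncomputable def ofCoeff {N : Type u} [AddCommGroup N] [Module A N] (y : (κ →₀ ℕ) → N) :
    (⨂[A] _ : Fin d, M) →ₗ[A] N :=
  (bT e d).constr A (fun c => if rep c = c then y (mult c) else 0)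

theorem ofCoeff_osum {N : Type u} [AddCommGroup N] [Module A N] (y : (κ →₀ ℕ) → N) (α : κ →₀ ℕ) (hα : α.degree = d) :
    ofCoeff e d y (osum A d e α) = y α := by
  classical
  obtain ⟨c₀, hc₀⟩ := K757.TSBasis.exists_mult_eq hα
  rw [osum_eq, map_sum]
  simp_rw [ofCoeff, ← bT_apply, Module.Basis.constr_basis]
  rw [Finset.sum_eq_single (rep c₀)]
  · rw [rep_rep, if_pos rfl, mult_rep, hc₀]
  · intro c hc hne
    rw [Finset.mem_filter] at hc
    rw [if_neg]
    intro h
    exact hne (by rw [← h]; exact rep_congr (hc.2.trans hc₀.symm))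
  · intro h
    exfalso
    apply h
    rw [Finset.mem_filter]
    exact ⟨Finset.mem_univ _, (mult_rep c₀).trans hc₀⟩

/-- The orbit sum as an element of the module of symmetric tensors. -/
noncomputable def sosum (b : κ → M) (α : κ →₀ ℕ) : Sym A M d := ⟨osum A d b α, osum_mem b α⟩

/-- The retraction onto the symmetric tensors. -/
noncomputable def retr : (⨂[A] _ : Fin d, M) →ₗ[A] Sym A M d := ofCoeff e d (fun α => sosum d e α)

theorem repr_osum (α : κ →₀ ℕ) (c : Fin d → κ) [Decidable (mult c = α)] :
    (bT e d).repr (osum A d e α) c = if mult c = α then 1 else 0 := by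
  classical
  rw [osum_eq, map_sum, Finsupp.finsetSum_apply]
  simp_rw [← bT_apply, Module.Basis.repr_self, Finsupp.single_apply]
  rw [Finset.sum_ite_eq']
  congr 1
  rw [eq_iff_iff, Finset.mem_filter]
  exact ⟨fun h => h.2, fun h => ⟨Finset.mem_univ _, h⟩⟩

theorem retr_val (z : Sym A M d) : retr e d z.1 = z := by
  classical
  apply Subtype.ext
  refine (bT e d).ext_elem fun c' => ?_
  rw [retr, ofCoeff, Module.Basis.constr_apply, Finsupp.sum]
  rw [AddSubmonoidClass.coe_finsetSum, map_sum, Finsupp.finsetSum_apply]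
  have h : ∀ c ∈ ((bT e d).repr z.1).support,
      (bT e d).repr (((((bT e d).repr z.1) c • if rep c = c then sosum d e (mult c) else 0 : Sym A M d)) :
        ⨂[A] _ : Fin d, M) c' = if c = rep c' then ((bT e d).repr z.1) (rep c') else 0 := by
    intro c _
    split_ifs with h1 h2 h2
    · rw [SetLike.val_smul, map_smul, Finsupp.smul_apply, sosum]
      simp only
      rw [repr_osum, h2, mult_rep, if_pos rfl, smul_eq_mul, mul_one]
    · rw [SetLike.val_smul, map_smul, Finsupp.smul_apply, sosum]
      simp only
      rw [repr_osum, if_neg, smul_zero]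
      intro h3
      exact h2 (by rw [← h1]; exact rep_congr h3.symm)
    · exact absurd (by rw [h2, rep_rep]) h1
    · simp
  rw [Finset.sum_congr rfl h, Finset.sum_ite_eq']
  split_ifs with h1
  · exact repr_Sym e d z.2 (mult_rep c')
  · rw [Finsupp.notMem_support_iff] at h1
    rw [← repr_Sym e d z.2 (mult_rep c'), h1]

theorem retr_comp_subtype : retr e d ∘ₗ (Sym A M d).subtype = LinearMap.id :=
  LinearMap.ext fun z => retr_val e d z

/-- The symmetric tensors of a finite free module are spanned by the orbit sums of the basis. -/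
theorem span_sosum : Submodule.span A {z : Sym A M d | ∃ α : κ →₀ ℕ, α.degree = d ∧ z = sosum d e α} = ⊤ := by
  classical
  rw [eq_top_iff]
  intro z _
  rw [← retr_val e d z, retr, ofCoeff, Module.Basis.constr_apply]
  refine Submodule.sum_mem _ fun c _ => Submodule.smul_mem _ _ ?_
  split_ifs
  · exact Submodule.subset_span ⟨_, degree_mult c, rfl⟩
  · exact Submodule.zero_mem _

include e in
theorem lTensor_subtype_injective_of_basis (N : Type*) [AddCommMonoid N] [Module A N] :
    Function.Injective ((Sym A M d).subtype.lTensor N) := by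
  refine Function.LeftInverse.injective (g := (retr e d).lTensor N) fun z => ?_
  rw [← LinearMap.comp_apply, ← LinearMap.lTensor_comp, retr_comp_subtype, LinearMap.lTensor_id, LinearMap.id_apply]

include e in
theorem finite_projective_Sym : Module.Finite A (Sym A M d) ∧ Module.Projective A (Sym A M d) := by
  classical
  have h1 : Function.Surjective (retr e d) := fun z => ⟨z.1, retr_val e d z⟩
  have : Module.Free A (⨂[A] _ : Fin d, M) := Module.Free.of_basis (bT e d)
  have : Module.Finite A (⨂[A] _ : Fin d, M) := Module.Finite.of_basis (bT e d)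
  exact ⟨Module.Finite.of_surjective _ h1, Module.Projective.of_split _ _ (retr_comp_subtype e d)⟩

/-- The linear map on the tensor power attached to a homogeneous law on a free module. -/
noncomputable def liftT {N : Type u} [AddCommGroup N] [Module A N] (F : M →ₚₗ[A] N) : (⨂[A] _ : Fin d, M) →ₗ[A] N :=
  ofCoeff e d (fun α => coeff F e α)

variable {d} in
/-- It computes the coefficients on every finite family. -/
theorem liftT_osum {N : Type u} [AddCommGroup N] [Module A N] {F : M →ₚₗ[A] N} (hF : PolLaw.IsHomog F d)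
    {κ' : Type} [Fintype κ'] (b : κ' → M) (α : κ' →₀ ℕ) (hα : α.degree = d) :
    liftT e d F (osum A d b α) = coeff F b α := by
  classical
  -- values on all points
  have key : ∀ (S : Type u) [CommSemiring S] [Algebra A S] (s : κ' → S),
      F.toFun' S (∑ j, s j ⊗ₜ[A] b j) =
        (liftT e d F).lTensor S (∑ c : Fin d → κ', (∏ i, s (c i)) ⊗ₜ[A] PiTensorProduct.tprod A (fun i => b (c i))) := by
    intro S _ _ s
    have hb : ∀ k, b k = ∑ j, e.repr (b k) j • e j := fun k => (e.sum_repr (b k)).symm
    have h1 : (∑ k, s k ⊗ₜ[A] b k) = ∑ j, (∑ k, e.repr (b k) j • s k) ⊗ₜ[A] e j := by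
      conv_lhs =>
        enter [2, k]
        rw [hb k]
      simp only [TensorProduct.tmul_sum, TensorProduct.sum_tmul, TensorProduct.tmul_smul, TensorProduct.smul_tmul']
      rw [Finset.sum_comm]
    have h2 : (∑ c : Fin d → κ', (∏ i, s (c i)) ⊗ₜ[A] PiTensorProduct.tprod A (fun i => b (c i))) =
        ∑ c : Fin d → κ, (∏ i, ∑ k, e.repr (b k) (c i) • s k) ⊗ₜ[A] PiTensorProduct.tprod A (fun i => e (c i)) := by
      rw [← sum_tprod_linear s (fun k j => e.repr (b k) j) e]
      refine Finset.sum_congr rfl fun c _ => ?_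
      congr 2
      funext i
      exact hb (c i)
    rw [h1, h2, toFun'_sum_homog hF, sum_tprod_eq (fun j => ∑ k, e.repr (b k) j • s k) e, map_sum]
    refine Finset.sum_congr rfl fun β hβ => ?_
    rw [LinearMap.lTensor_tmul, liftT, ofCoeff_osum]
    rw [Finset.mem_finsuppAntidiag] at hβ
    rw [Finsupp.degree_eq_sum]
    exact hβ.1
  have h := key (MvPolynomial κ' A) MvPolynomial.X
  rw [sum_tprod_eq, map_sum] at h
  simp only [LinearMap.lTensor_tmul] at h
  have h' := coeff_eq_of_toFun'_gen F b (Finset.finsuppAntidiag Finset.univ d)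
    (fun α => liftT e d F (osum A d b α)) (by
      rw [gen, h]
      refine Finset.sum_congr rfl fun β _ => ?_
      rw [MvPolynomial.monomial_eq, map_one, one_mul, Finsupp.prod_fintype _ _ (fun i => pow_zero _)]) α
  rw [h', if_pos]
  rw [Finset.mem_finsuppAntidiag]
  exact ⟨by rw [← Finsupp.degree_eq_sum, hα], Finset.subset_univ _⟩

end Free

end K758.SymMod
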