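import Groth.Agent.ZeroCyc.K758.CoefMul
import Groth.Agent.ZeroCyc.K757.TSFree
import Mathlib.LinearAlgebra.PiTensorProduct.Basis

/-! Symmetric tensors of modules: orbit sums, finite free modules, laws. -/

set_option autoImplicit false
universe u

open scoped TensorProduct
open K758.Coef K757.TSFree

namespace K758.SymMod

section Def

variable (A : Type u) [CommRing A] (M : Type u) [AddCommGroup M] [Module A M] (d : ℕ)

/-- The symmetric tensors of degree `d` of a module. -/
noncomputable def Sym : Submodule A (⨂[A] _ : Fin d, M) :=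
  ⨅ σ : Equiv.Perm (Fin d),
    LinearMap.eqLocus (PiTensorProduct.reindex A (fun _ : Fin d => M) σ).toLinearMap LinearMap.id

variable {A M d}

theorem mem_Sym (t : ⨂[A] _ : Fin d, M) :
    t ∈ Sym A M d ↔ ∀ σ : Equiv.Perm (Fin d), PiTensorProduct.reindex A (fun _ : Fin d => M) σ t = t := by
  simp only [Sym, Submodule.mem_iInf, LinearMap.mem_eqLocus, LinearEquiv.coe_coe, LinearMap.id_apply]

theorem map_reindex {N : Type u} [AddCommGroup N] [Module A N] (f : M →ₗ[A] N) (σ : Equiv.Perm (Fin d))
    (t : ⨂[A] _ : Fin d, M) :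
    PiTensorProduct.map (fun _ : Fin d => f) (PiTensorProduct.reindex A (fun _ : Fin d => M) σ t) =
      PiTensorProduct.reindex A (fun _ : Fin d => N) σ (PiTensorProduct.map (fun _ : Fin d => f) t) := by
  induction t using PiTensorProduct.induction_on with
  | smul_tprod r g => simp [PiTensorProduct.reindex_tprod, PiTensorProduct.map_tprod]
  | add x y hx hy => simp only [map_add, hx, hy]

theorem map_mem_Sym {N : Type u} [AddCommGroup N] [Module A N] (f : M →ₗ[A] N) {t : ⨂[A] _ : Fin d, M}
    (ht : t ∈ Sym A M d) : PiTensorProduct.map (fun _ : Fin d => f) t ∈ Sym A N d := by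
  rw [mem_Sym] at ht ⊢
  intro σ
  rw [← map_reindex, ht σ]

variable (d) in
/-- Functoriality of symmetric tensors. -/
noncomputable def symMap {N : Type u} [AddCommGroup N] [Module A N] (f : M →ₗ[A] N) : Sym A M d →ₗ[A] Sym A N d :=
  (PiTensorProduct.map (fun _ : Fin d => f)).restrict fun _ ht => map_mem_Sym f ht

@[simp] theorem symMap_val {N : Type u} [AddCommGroup N] [Module A N] (f : M →ₗ[A] N) (t : Sym A M d) :
    (symMap d f t : ⨂[A] _ : Fin d, N) = PiTensorProduct.map (fun _ : Fin d => f) t.1 := rfl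

end Def

section Osum

variable {A : Type u} [CommRing A] {M : Type u} [AddCommGroup M] [Module A M]
  {κ : Type} [Fintype κ] {d : ℕ}

open Classical in
variable (A d) in
/-- The orbit sum: the sum of the pure tensors built from the family `b` with multi-index `α`. -/
noncomputable def osum (b : κ → M) (α : κ →₀ ℕ) : ⨂[A] _ : Fin d, M :=
  ∑ c : Fin d → κ with mult c = α, PiTensorProduct.tprod A (fun k => b (c k))

theorem osum_eq (b : κ → M) (α : κ →₀ ℕ) [DecidablePred fun c : Fin d → κ => mult c = α] :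
    osum A d b α = ∑ c : Fin d → κ with mult c = α, PiTensorProduct.tprod A (fun k => b (c k)) := by
  unfold osum
  exact Finset.sum_congr (by ext c; simp) fun _ _ => rfl

theorem osum_mem (b : κ → M) (α : κ →₀ ℕ) : osum A d b α ∈ Sym A M d := by
  classical
  rw [mem_Sym]
  intro σ
  rw [osum, map_sum]
  simp only [PiTensorProduct.reindex_tprod]
  refine Finset.sum_nbij' (fun c => c ∘ σ.symm) (fun c => c ∘ σ) ?_ ?_ ?_ ?_ ?_
  · intro c hc
    rw [Finset.mem_filter] at hc ⊢
    exact ⟨Finset.mem_univ _, by rw [mult_comp_perm, hc.2]⟩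
  · intro c hc
    rw [Finset.mem_filter] at hc ⊢
    exact ⟨Finset.mem_univ _, by rw [mult_comp_perm, hc.2]⟩
  · intro c _; funext k; simp
  · intro c _; funext k; simp
  · intro c _; rfl

theorem map_osum {N : Type u} [AddCommGroup N] [Module A N] (f : M →ₗ[A] N) (b : κ → M) (α : κ →₀ ℕ) :
    PiTensorProduct.map (fun _ : Fin d => f) (osum A d b α) = osum A d (fun k => f (b k)) α := by
  classical
  rw [osum, osum, map_sum]
  simp only [PiTensorProduct.map_tprod]

theorem prod_pow_mult {T : Type*} [CommMonoid T] (c : Fin d → κ) (t : κ → T) :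
    ∏ j, t j ^ (mult c) j = ∏ i, t (c i) := by
  classical
  simp only [mult, Finsupp.finsetSum_apply, Finsupp.single_apply]
  simp only [← Finset.prod_pow_eq_pow_sum]
  rw [Finset.prod_comm]
  refine Finset.prod_congr rfl fun i _ => ?_
  rw [Finset.prod_eq_single (c i)]
  · simp
  · intro j _ hj
    rw [if_neg (Ne.symm hj), pow_zero]
  · intro h; exact absurd (Finset.mem_univ _) h

omit [Fintype κ] in
theorem degree_mult (c : Fin d → κ) : (mult c).degree = d := by
  classical
  rw [mult, map_sum]
  simp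

theorem mult_mem [DecidableEq κ] (c : Fin d → κ) : mult c ∈ Finset.finsuppAntidiag (Finset.univ : Finset κ) d := by
  rw [Finset.mem_finsuppAntidiag]
  exact ⟨by rw [← Finsupp.degree_eq_sum, degree_mult], Finset.subset_univ _⟩

/-- The expansion of `x ⊗ ⋯ ⊗ x`, grouped by multi-index. -/
theorem sum_tprod_eq [DecidableEq κ] {S : Type u} [CommSemiring S] [Algebra A S] (s : κ → S) (b : κ → M) :
    (∑ c : Fin d → κ, (∏ i, s (c i)) ⊗ₜ[A] PiTensorProduct.tprod A (fun i => b (c i))) =
      ∑ α ∈ Finset.finsuppAntidiag Finset.univ d, (∏ j, s j ^ α j) ⊗ₜ[A] osum A d b α := by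
  classical
  rw [← Finset.sum_fiberwise_of_maps_to (s := Finset.univ) (t := Finset.finsuppAntidiag Finset.univ d)
    (g := fun c : Fin d → κ => mult c) (fun c _ => mult_mem c)]
  refine Finset.sum_congr rfl fun α _ => ?_
  rw [osum_eq, TensorProduct.tmul_sum]
  refine Finset.sum_congr rfl fun c hc => ?_
  rw [Finset.mem_filter] at hc
  rw [← hc.2, prod_pow_mult]

/-- Multilinear expansion. -/
theorem sum_tprod_linear {κ' : Type} [Fintype κ'] {S : Type u} [CommSemiring S] [Algebra A S] (s : κ → S)
    (a : κ → κ' → A) (e : κ' → M) :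
    (∑ c : Fin d → κ, (∏ i, s (c i)) ⊗ₜ[A] PiTensorProduct.tprod A (fun i => ∑ j, a (c i) j • e j)) =
      ∑ c : Fin d → κ', (∏ i, ∑ k, a k (c i) • s k) ⊗ₜ[A] PiTensorProduct.tprod A (fun i => e (c i)) := by
  classical
  have h1 : ∀ c : Fin d → κ, PiTensorProduct.tprod A (fun i => ∑ j, a (c i) j • e j) =
      ∑ c' : Fin d → κ', (∏ i, a (c i) (c' i)) • PiTensorProduct.tprod A (fun i => e (c' i)) := by
    intro c
    rw [MultilinearMap.map_sum]
    refine Finset.sum_congr rfl fun c' _ => ?_
    rw [MultilinearMap.map_smul_univ]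
  have h2 : ∀ c' : Fin d → κ', (∏ i, ∑ k, a k (c' i) • s k) =
      ∑ c : Fin d → κ, (∏ i, a (c i) (c' i)) • ∏ i, s (c i) := by
    intro c'
    rw [Finset.prod_univ_sum]
    simp only [Fintype.piFinset_univ]
    refine Finset.sum_congr rfl fun c _ => ?_
    rw [Finset.prod_smul]
  simp only [h1, h2, TensorProduct.tmul_sum, TensorProduct.sum_tmul]
  rw [Finset.sum_comm]
  refine Finset.sum_congr rfl fun c' _ => Finset.sum_congr rfl fun c _ => ?_
  rw [TensorProduct.tmul_smul, TensorProduct.smul_tmul']

end Osum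

section Tpow

variable {A : Type u} [CommRing A] {B : Type u} [CommRing B] [Algebra A B] {κ : Type} [Fintype κ] {d : ℕ}

theorem tpowLaw_sum (S : Type u) [CommSemiring S] [Algebra A S] (s : κ → S) (b : κ → B) :
    (SymTen.tpowLaw A B d).law.toFun' S (∑ j, s j ⊗ₜ[A] b j) =
      ∑ c : Fin d → κ, (∏ i, s (c i)) ⊗ₜ[A] PiTensorProduct.tprod A (fun i => b (c i)) := by
  classical
  rw [SymTen.tpowLaw, PolLaw.MulLaw.prodMap_toFun']
  simp only [map_sum, Algebra.TensorProduct.map_tmul, AlgHom.id_apply]
  rw [Finset.prod_univ_sum]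
  simp only [Fintype.piFinset_univ]
  refine Finset.sum_congr rfl fun c _ => ?_
  rw [← prod_single]
  induction (Finset.univ : Finset (Fin d)) using Finset.induction_on with
  | empty => simp [Algebra.TensorProduct.one_def]
  | insert j s hj ih => rw [Finset.prod_insert hj, Finset.prod_insert hj, Finset.prod_insert hj, ih,
      Algebra.TensorProduct.tmul_mul_tmul]

/-- The coefficients of the tensor power law are the orbit sums. -/
theorem coeff_tpowLaw (b : κ → B) (α : κ →₀ ℕ) (hα : α.degree = d) :
    coeff (SymTen.tpowLaw A B d).law b α = osum A d b α := by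
  classical
  have h := coeff_eq_of_toFun'_gen (SymTen.tpowLaw A B d).law b (Finset.finsuppAntidiag Finset.univ d)
    (fun α => osum A d b α) (by
      rw [gen, tpowLaw_sum, sum_tprod_eq]
      refine Finset.sum_congr rfl fun β _ => ?_
      rw [MvPolynomial.monomial_eq, map_one, one_mul, Finsupp.prod_fintype _ _ (fun i => pow_zero _)]) α
  rw [h, if_pos]
  rw [Finset.mem_finsuppAntidiag]
  exact ⟨by rw [← Finsupp.degree_eq_sum, hα], Finset.subset_univ _⟩

theorem Sym_eq_TS (t : ⨂[A] _ : Fin d, B) : t ∈ Sym A B d ↔ t ∈ SymTen.TS A B d := by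
  rw [mem_Sym, SymTen.mem_TS_iff]

end Tpow

end K758.SymMod
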